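import Cfsg.Agent.Lib.Spor.CoSeven.Form
import Cfsg.Agent.Lib.Spor.CoLocal.Main

/-!
Inside the centraliser of the fixed point free element of order seven the normaliser of a Sylow subgroup
for seven has order at most one hundred and forty-seven.
-/

set_option autoImplicit false
set_option maxRecDepth 100000

namespace Cfsg.Agent.Spor.CoSeven

open Cfsg Cfsg.Agent.Spor.MonsterFusion
open Co1Seven (pr pel beta)
open CoLocal (lift_rel)
open scoped Pointwise

local notation "Zv" => GolayPt → ℤ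
set_option quotPrecheck false in
local notation "Lv" => ↥leechLattice
local notation "Co1" => Cfsg.Spor.Co1

instance co1Finite : Finite Co1 := by haveI := co0_finite; infer_instance

/-- the element in the first Conway group -/
noncomputable def gam1 : Co1 := pr gam

/-- the centraliser -/
abbrev C1 : Subgroup Co1 := Subgroup.centralizer ({gam1} : Set Co1)

/-- has a fixed vector -/
def Fx (x : ↥Co0) : Prop := ∃ v : Lv, v ≠ 0 ∧ x • v = v

theorem fx_conj (g x : ↥Co0) : Fx (g * x * g⁻¹) ↔ Fx x := by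
  have hne : ∀ (h : ↥Co0) {v : Lv}, v ≠ 0 → h • v ≠ 0 := fun h v hv e => hv (by
    have := congrArg (fun w : Lv => h⁻¹ • w) e
    simp only [inv_smul_smul] at this
    rwa [show h⁻¹ • (0 : Lv) = 0 from map_zero (toEnd h⁻¹)] at this)
  constructor
  · rintro ⟨v, hv, e⟩
    refine ⟨g⁻¹ • v, hne _ hv, ?_⟩
    conv_rhs => rw [← e]
    rw [← mul_smul, ← mul_smul]
    congr 1; group
  · rintro ⟨v, hv, e⟩
    refine ⟨g • v, hne _ hv, ?_⟩
    rw [← mul_smul, show g * x * g⁻¹ * g = g * x by group, mul_smul, e]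

theorem fx_pow {x : ↥Co0} (h : Fx x) : ∀ n : ℕ, Fx (x ^ n) := fun n => by
  obtain ⟨v, hv, e⟩ := h
  refine ⟨v, hv, ?_⟩
  induction n with
  | zero => rw [pow_zero, one_smul]
  | succ n ih => rw [pow_succ, mul_smul, e, ih]

theorem not_fx {x : ↥Co0} (h : Free x) : ¬ Fx x := by
  rintro ⟨v, hv, e⟩
  have h1 := h.phi v
  have hn : ∀ n : ℕ, x ^ n • v = v := fun n => by
    induction n with
    | zero => rw [pow_zero, one_smul]
    | succ n ih => rw [pow_succ, mul_smul, e, ih]
  simp only [hn, Finset.sum_const, Finset.card_range] at h1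
  refine hv (Subtype.ext (funext fun k => ?_))
  have h2 := congrFun (congrArg Subtype.val h1) k
  simp at h2
  exact h2

theorem el_mix (j : ℕ) : El (pel * gam ^ j) (mulL (pwL gamM j) pelM) := el_pel.mul (el_pow el_gam j)

theorem fx_of_check {x : ↥Co0} {M : List (List ℤ)} {v : List ℤ} (hx : El x M) (h : fixOK M v = true) : Fx x := by
  simp only [fixOK, Bool.and_eq_true, beq_iff_eq, List.all_eq_true, List.mem_range, List.any_eq_true, bne_iff_ne] at h
  obtain ⟨⟨⟨hl, hv⟩, c, hc, hc0⟩, hfix⟩ := h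
  refine ⟨⟨vecOf v, leechCheck_mem hv⟩, fun e => hc0 ?_, Subtype.ext (funext fun k => ?_)⟩
  · obtain ⟨n, hn, rfl⟩ := List.getElem_of_mem hc
    have := congrFun (congrArg Subtype.val e) (pt n)
    simp only [vecOf, idx_pt n (hl ▸ hn), List.getD_eq_getElem _ _ hn] at this
    exact this
  · rw [hx.apply]
    have := hfix _ (idx_lt k)
    rw [dotL_vec hl (shape_row (shape_trL hx.shp) k)] at this
    rw [show (∑ j, vecOf v j * row M j k) = 8 * v.getD (idx k) 0 from
      (Finset.sum_congr rfl fun q _ => congrArg _ (row_trL hx.shp k q).symm).trans this]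
    show _ = v.getD (idx k) 0
    omega

/-- the exponents with fixed vectors -/
def fixSet (j : ℕ) : Bool := j % 7 == 0 || j % 7 == 3 || j % 7 == 5 || j % 7 == 6

theorem fx_iff (j : ℕ) : Fx (pel * gam ^ j) ↔ fixSet j = true := by
  have e : gam ^ j = gam ^ (j % 7) := pow_eq_pow_mod j gam_pow_seven
  have hj := Nat.mod_lt j (show 7 > 0 by norm_num)
  rw [e, fixSet]
  generalize j % 7 = r at hj ⊢
  interval_cases r
  · simp only [pow_zero, mul_one]
    simpa using fx_of_check el_pel fix_zero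
  · simpa using not_fx (free_of (el_mix 1) mix_phi1)
  · simpa using not_fx (free_of (el_mix 2) mix_phi2)
  · simpa using fx_of_check (el_mix 3) fix_3
  · simpa using not_fx (free_of (el_mix 4) mix_phi4)
  · simpa using fx_of_check (el_mix 5) fix_5
  · simpa using fx_of_check (el_mix 6) fix_6

theorem pel_seven : pel ^ 7 = 1 := Co1Seven.pel_pow_seven

theorem mixed_seven (a b : ℕ) : (pel ^ a * gam ^ b) ^ 7 = 1 := by
  rw [((gam_pel_comm.symm.pow_left a).pow_right b).mul_pow, ← pow_mul, ← pow_mul, mul_comm a, mul_comm b, pow_mul,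
    pow_mul, pel_seven, gam_pow_seven, one_pow, one_pow, one_mul]

theorem indep {a b : ℕ} (h : pel ^ a = gam ^ b) : b % 7 = 0 ∧ a % 7 = 0 := by
  have hb : b % 7 = 0 := by
    by_contra hb
    have hfix : Fx (gam ^ b) := by rw [← h]; exact fx_pow (by simpa using (fx_iff 0).2 rfl) a
    obtain ⟨c, hc⟩ := show ∃ c, b * c % 7 = 1 by
      have : ∀ r < 7, r ≠ 0 → ∃ c < 7, r * c % 7 = 1 := by decide
      obtain ⟨c, -, hc⟩ := this (b % 7) (Nat.mod_lt _ (by norm_num)) hb
      exact ⟨c, by rw [Nat.mul_mod, Nat.mod_mod_of_dvd _ (dvd_refl 7)] at *; simpa [Nat.mul_mod] using hc⟩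
    have := fx_pow hfix c
    rw [← pow_mul, pow_eq_pow_mod _ gam_pow_seven, hc, pow_one] at this
    exact not_fx gam_free this
  refine ⟨hb, ?_⟩
  rw [pow_eq_pow_mod b gam_pow_seven, hb, pow_zero] at h
  have := orderOf_dvd_of_pow_eq_one h
  rw [Co1Seven.orderOf_pel] at this
  omega

theorem gam1_seven : gam1 ^ 7 = 1 := by rw [gam1, ← map_pow, gam_pow_seven, map_one]

theorem beta_seven : beta ^ 7 = 1 := by rw [beta, ← map_pow, pel_seven, map_one]

theorem gam1_beta : Commute gam1 beta := gam_pel_comm.map pr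

theorem pr_indep {a b : ℕ} (h : beta ^ a = gam1 ^ b) : b % 7 = 0 ∧ a % 7 = 0 := by
  rw [beta, gam1, ← map_pow, ← map_pow] at h
  exact indep (lift_rel (p := 7) rfl h (by rw [← pow_mul, mul_comm, pow_mul, pel_seven, one_pow])
    (by rw [← pow_mul, mul_comm, pow_mul, gam_pow_seven, one_pow]))

theorem orderOf_gam1 : orderOf gam1 = 7 := by
  haveI : Fact (Nat.Prime 7) := ⟨by norm_num⟩
  refine orderOf_eq_prime gam1_seven fun e => ?_
  have := (pr_indep (a := 0) (b := 1) (by rw [pow_zero, pow_one, e])).1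
  norm_num at this

/-- powers -/
noncomputable def rmap : Fin 7 × Fin 7 → Co1 := fun x => gam1 ^ x.1.val * beta ^ x.2.val

/-- the Sylow subgroup -/
noncomputable def R : Subgroup Co1 where
  carrier := Set.range rmap
  one_mem' := ⟨(0, 0), by simp [rmap]⟩
  mul_mem' := by
    rintro _ _ ⟨⟨i, a⟩, rfl⟩ ⟨⟨j, b⟩, rfl⟩
    refine ⟨(i + j, a + b), ?_⟩
    simp only [rmap, Fin.val_add]
    rw [← pow_eq_pow_mod _ gam1_seven, ← pow_eq_pow_mod _ beta_seven, pow_add, pow_add, mul_assoc, mul_assoc,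
      ← mul_assoc (gam1 ^ j.val), ((gam1_beta.pow_left j.val).pow_right a.val).eq, mul_assoc]
  inv_mem' := by
    rintro _ ⟨⟨i, a⟩, rfl⟩
    refine ⟨(-i, -a), ?_⟩
    refine eq_inv_of_mul_eq_one_left ?_
    simp only [rmap]
    rw [mul_assoc, ← mul_assoc (beta ^ _), ((gam1_beta.pow_left i.val).pow_right (-a).val).symm.eq,
      ← mul_assoc, ← mul_assoc, ← pow_add, mul_assoc, ← pow_add, pow_eq_pow_mod _ gam1_seven,
      pow_eq_pow_mod ((-a).val + a.val) beta_seven, ← Fin.val_add, ← Fin.val_add, neg_add_cancel, neg_add_cancel]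
    simp

theorem rmap_inj : Function.Injective rmap := by
  rintro ⟨i, a⟩ ⟨j, b⟩ h
  simp only [rmap] at h
  have h1 : beta ^ (a.val + (7 - b.val)) = gam1 ^ (j.val + (7 - i.val)) := by
    have e : gam1 ^ (i.val + (7 - i.val)) = 1 := by rw [show i.val + (7 - i.val) = 7 by omega, gam1_seven]
    have e' : beta ^ (b.val + (7 - b.val)) = 1 := by rw [show b.val + (7 - b.val) = 7 by omega, beta_seven]
    calc beta ^ (a.val + (7 - b.val))
        = gam1 ^ (7 - i.val) * (gam1 ^ i.val * beta ^ a.val) * beta ^ (7 - b.val) := by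
          rw [← mul_assoc, ← pow_add, add_comm _ i.val, e, one_mul, pow_add]
      _ = gam1 ^ (7 - i.val) * (gam1 ^ j.val * beta ^ b.val) * beta ^ (7 - b.val) := by rw [h]
      _ = gam1 ^ (j.val + (7 - i.val)) := by
          rw [← mul_assoc, mul_assoc, ← pow_add beta, e', mul_one, ← pow_add, add_comm]
  obtain ⟨h2, h3⟩ := pr_indep h1
  have := i.isLt; have := j.isLt; have := a.isLt; have := b.isLt
  refine Prod.ext (Fin.ext ?_) (Fin.ext ?_) <;> dsimp only <;> omega

theorem card_R : Nat.card R = 49 := by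
  show Nat.card ↥(Set.range rmap) = 49
  rw [Nat.card_range_of_injective rmap_inj, Nat.card_prod, Nat.card_fin]

theorem R_le : R ≤ C1 := by
  rintro _ ⟨⟨i, a⟩, rfl⟩
  exact Subgroup.mem_centralizer_singleton_iff.2
    (((Commute.refl gam1).pow_left i.val).mul_left (gam1_beta.symm.pow_left a.val)).eq

/-- the centraliser of both -/
abbrev D1 : Subgroup Co1 := C1 ⊓ Subgroup.centralizer ({beta} : Set Co1)

theorem gam_mem_beta : gam1 ∈ Subgroup.centralizer ({beta} : Set Co1) :=
  Subgroup.mem_centralizer_singleton_iff.2 gam1_beta.eq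

theorem mu_gam : ((Co1Seven.mu ⟨gam1, gam_mem_beta⟩ : Matrix.SpecialLinearGroup (Fin 3) (ZMod 2)) :
    Matrix (Fin 3) (Fin 3) (ZMod 2)) = actA := by
  refine (Co1Seven.mu_spec ⟨gam1, gam_mem_beta⟩ (g := gam) rfl).unique fun a => ?_
  have h := Co1Seven.congB_sound (gam_act a)
  have e : ((gam • Co1Seven.comb (Co1Seven.up a) : Lv) : Zv) =
      fun k => (∑ i, Co1Seven.combF (Co1Seven.up a) i * row gamM i k) / 8 := funext fun k => by
    rw [el_gam.apply, Co1Seven.comb_val]
  rw [e, Co1Seven.comb_val]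
  exact h

theorem card_D1 : Nat.card D1 ≤ 49 := by
  classical
  let φ : D1 →* Matrix.SpecialLinearGroup (Fin 3) (ZMod 2) :=
    Co1Seven.mu.comp (Subgroup.inclusion (inf_le_right : D1 ≤ Subgroup.centralizer ({beta} : Set Co1)))
  have hker : Nat.card φ.ker ≤ 7 := by
    let f : φ.ker → Subgroup.zpowers beta := fun x => ⟨((x : D1) : Co1),
      (Co1Seven.mu_ker ⟨((x : D1) : Co1), (x : D1).2.2⟩).1 x.2⟩
    refine (Nat.card_le_card_of_injective f fun x y e =>
      Subtype.ext (Subtype.ext (congrArg (fun z : Subgroup.zpowers beta => (z : Co1)) e))).trans ?_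
    rw [Nat.card_zpowers, Co1Seven.orderOf_beta]
  have hran : Nat.card φ.range ≤ 7 := by
    let S := (Finset.univ : Finset (Matrix (Fin 3) (Fin 3) (ZMod 2))).filter
      fun M => M.det = 1 ∧ M * actA = actA * M
    have hmem : ∀ y : φ.range, ((y : Matrix.SpecialLinearGroup (Fin 3) (ZMod 2)) :
        Matrix (Fin 3) (Fin 3) (ZMod 2)) ∈ S := by
      rintro ⟨_, x, rfl⟩
      refine Finset.mem_filter.2 ⟨Finset.mem_univ _, (φ x).2, ?_⟩
      rw [← mu_gam]
      have hcomm : (⟨(x : Co1), x.2.2⟩ : Subgroup.centralizer ({beta} : Set Co1)) * ⟨gam1, gam_mem_beta⟩ =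
          ⟨gam1, gam_mem_beta⟩ * ⟨(x : Co1), x.2.2⟩ :=
        Subtype.ext (Subgroup.mem_centralizer_singleton_iff.1 x.2.1)
      have := congrArg Co1Seven.mu hcomm
      rw [map_mul, map_mul] at this
      exact congrArg Subtype.val this
    refine (Nat.card_le_card_of_injective (fun y => (⟨_, hmem y⟩ : S)) fun y z e =>
      Subtype.ext (Subtype.ext (congrArg (fun w : S => (w : Matrix (Fin 3) (Fin 3) (ZMod 2))) e))).trans ?_
    rw [Nat.card_eq_fintype_card, Fintype.card_coe]
    exact act_cent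
  rw [Subgroup.card_eq_card_quotient_mul_card_subgroup φ.ker,
    Nat.card_congr (QuotientGroup.quotientKerEquivRange φ).toEquiv]
  exact Nat.mul_le_mul hran hker

/-- conjugation raises the element to a square power -/
theorem norm_exp {n : Co1} (hn : n ∈ C1) (hN : n * beta * n⁻¹ ∈ R) :
    ∃ a ∈ ({1, 2, 4} : Finset ℕ), n * beta * n⁻¹ = beta ^ a := by
  obtain ⟨⟨i, a⟩, hia⟩ := hN
  simp only [rmap] at hia
  obtain ⟨g, rfl⟩ := QuotientGroup.mk'_surjective (Subgroup.center ↥Co0) n
  have hg : g * gam * g⁻¹ = gam := lift_rel (p := 7) rfl (by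
    rw [map_mul, map_mul, map_inv]
    exact mul_inv_eq_iff_eq_mul.2 (Subgroup.mem_centralizer_singleton_iff.1 hn))
    (by rw [conj_pow, gam_pow_seven]; group) gam_pow_seven
  have hp : g * pel * g⁻¹ = pel ^ a.val * gam ^ i.val := lift_rel (p := 7) rfl (by
    rw [map_mul, map_mul, map_inv, map_mul, map_pow, map_pow]
    show pr g * beta * (pr g)⁻¹ = beta ^ a.val * gam1 ^ i.val
    rw [← ((gam1_beta.pow_left i.val).pow_right a.val).eq]
    exact hia.symm)
    (by rw [conj_pow, pel_seven]; group) (mixed_seven _ _)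
  have hconj : ∀ j : ℕ, g * (pel * gam ^ j) * g⁻¹ = pel ^ a.val * gam ^ (i.val + j) := fun j => by
    rw [show g * (pel * gam ^ j) * g⁻¹ = g * pel * g⁻¹ * (g * gam ^ j * g⁻¹) by group, ← conj_pow, hg, hp,
      mul_assoc, ← pow_add]
  have ha : a.val ≠ 0 := fun e => by
    rw [e, pow_zero, one_mul] at hp
    have h2 : pel = gam ^ i.val := by
      have h3 : g * gam ^ i.val * g⁻¹ = gam ^ i.val := by rw [← conj_pow, hg]
      exact mul_left_cancel (mul_right_cancel (hp.trans h3.symm))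
    have := (indep (a := 1) (by rw [pow_one]; exact h2)).2
    norm_num at this
  obtain ⟨b, hb7, hb⟩ : ∃ b < 7, a.val * b % 7 = 1 := by
    have : ∀ r < 7, r ≠ 0 → ∃ c < 7, r * c % 7 = 1 := by decide
    exact this _ a.isLt ha
  have hS : ∀ j : ℕ, fixSet ((i.val + j) * b) = fixSet j := fun j => by
    rw [Bool.eq_iff_iff, ← fx_iff, ← fx_iff, ← fx_conj g (pel * gam ^ j), hconj]
    have e1 : (pel ^ a.val * gam ^ (i.val + j)) ^ b = pel * gam ^ ((i.val + j) * b) := by
      rw [((gam_pel_comm.symm.pow_left _).pow_right _).mul_pow, ← pow_mul, ← pow_mul,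
        pow_eq_pow_mod (a.val * b) pel_seven, hb, pow_one]
    have e2 : (pel * gam ^ ((i.val + j) * b)) ^ a.val = pel ^ a.val * gam ^ (i.val + j) := by
      rw [(gam_pel_comm.symm.pow_right _).mul_pow, ← pow_mul, pow_eq_pow_mod _ gam_pow_seven,
        show (i.val + j) * b * a.val % 7 = (i.val + j) % 7 by
          rw [mul_assoc, mul_comm b, Nat.mul_mod, hb, mul_one, Nat.mod_mod],
        ← pow_eq_pow_mod _ gam_pow_seven]
    exact ⟨fun h => e2 ▸ fx_pow h a.val, fun h => e1 ▸ fx_pow h b⟩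
  have hdec : ∀ i a b : Fin 7, a.val * b.val % 7 = 1 → (∀ j : Fin 7, fixSet ((i.val + j.val) * b.val) = fixSet j.val) →
      i = 0 ∧ a.val ∈ ({1, 2, 4} : Finset ℕ) := by decide +kernel
  obtain ⟨hi0, ha'⟩ := hdec i a ⟨b, hb7⟩ hb fun j => hS j.val
  refine ⟨a.val, ha', ?_⟩
  rw [← hia, hi0, Fin.val_zero, pow_zero, one_mul]

/-- the normaliser in the centraliser -/
theorem card_norm : Nat.card (C1 ⊓ Subgroup.normalizer (R : Set Co1) : Subgroup Co1) ≤ 147 := by
  classical
  set N := C1 ⊓ Subgroup.normalizer (R : Set Co1)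
  have hb : ∀ n : N, ∃ a ∈ ({1, 2, 4} : Finset ℕ), (n : Co1) * beta * (n : Co1)⁻¹ = beta ^ a := fun n =>
    norm_exp n.2.1 ((Subgroup.mem_normalizer_iff.1 n.2.2 beta).1 ⟨(0, 1), by simp [rmap]⟩)
  choose e he he' using hb
  let rep : ℕ → N := fun a => if h : ∃ n, e n = a then h.choose else 1
  have hrep : ∀ n, e (rep (e n)) = e n := fun n => by
    have h : ∃ m, e m = e n := ⟨n, rfl⟩
    simp only [rep, dif_pos h]
    exact h.choose_spec
  have hD : ∀ n : N, ((rep (e n))⁻¹ * n : N).1 ∈ D1 := fun n => by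
    refine ⟨((rep (e n))⁻¹ * n).2.1, Subgroup.mem_centralizer_singleton_iff.2 ?_⟩
    set m : Co1 := (rep (e n) : Co1)
    have h1 : (n : Co1) * beta * (n : Co1)⁻¹ = m * beta * m⁻¹ := by
      rw [he', show m * beta * m⁻¹ = _ from he' (rep (e n)), hrep]
    show m⁻¹ * (n : Co1) * beta = beta * (m⁻¹ * (n : Co1))
    calc m⁻¹ * (n : Co1) * beta = m⁻¹ * ((n : Co1) * beta * (n : Co1)⁻¹) * n := by group
      _ = _ := by rw [h1]; group
  let f : N → ({1, 2, 4} : Finset ℕ) × D1 := fun n => (⟨e n, he n⟩, ⟨_, hD n⟩)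
  have hf : Function.Injective f := fun m n h => by
    have h1 : e m = e n := congrArg (fun z : ({1, 2, 4} : Finset ℕ) × D1 => (z.1 : ℕ)) h
    have h2 : ((rep (e m))⁻¹ * m : N).1 = ((rep (e n))⁻¹ * n : N).1 :=
      congrArg (fun z : ({1, 2, 4} : Finset ℕ) × D1 => (z.2 : Co1)) h
    rw [h1] at h2
    exact mul_left_cancel (Subtype.ext h2)
  refine (Nat.card_le_card_of_injective f hf).trans ?_
  rw [Nat.card_prod, Nat.card_eq_fintype_card, Fintype.card_coe]
  exact (Nat.mul_le_mul_left _ card_D1).trans (by decide)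

end Cfsg.Agent.Spor.CoSeven
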