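import Mathlib

/-!
Matrices of a fixed point free element of order seven of the automorphism group of the Leech lattice, of
generators of its centraliser, and witnesses for a basis of the residues.
-/

set_option autoImplicit false

namespace Cfsg.Agent.Spor.CoSeven

/-- the element of order seven -/
def gamM : List (List ℤ) := [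
  [2,-2,-2,-2,-2,0,-2,-2,0,0,-2,-2,-2,-2,-2,0,-2,-2,2,-2,0,0,0,0],
  [2,2,2,2,-2,0,2,2,0,0,-2,-2,-2,2,2,0,2,-2,2,-2,0,0,0,0],
  [2,-2,2,-2,2,0,-2,2,0,0,2,2,-2,2,-2,0,2,2,2,-2,0,0,0,0],
  [2,-2,2,2,-2,0,-2,-2,0,0,2,-2,2,-2,2,0,2,2,2,2,0,0,0,0],
  [2,2,-2,2,2,0,2,-2,0,0,2,2,-2,-2,2,0,-2,2,2,-2,0,0,0,0],
  [-4,0,0,0,0,-2,0,0,-2,-2,0,0,0,0,0,-2,0,0,4,0,-2,-2,-2,-2],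
  [0,4,0,0,0,2,-4,0,-2,-2,0,0,0,0,0,-2,0,0,0,0,2,-2,2,2],
  [2,-2,-2,2,2,0,-2,2,0,0,-2,2,2,2,2,0,-2,-2,2,2,0,0,0,0],
  [0,-4,0,0,0,2,4,0,-2,-2,0,0,0,0,0,-2,0,0,0,0,2,-2,2,2],
  [0,0,0,0,0,2,0,0,2,-2,0,0,-4,0,0,2,0,0,0,4,-2,-2,2,-2],
  [2,2,-2,-2,-2,0,2,2,0,0,2,-2,2,2,-2,0,-2,2,2,2,0,0,0,0],
  [0,0,0,0,4,2,0,0,2,-2,0,-4,0,0,0,-2,0,0,0,0,2,2,-2,-2],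
  [2,2,2,-2,2,0,2,-2,0,0,-2,2,2,-2,-2,0,2,-2,2,2,0,0,0,0],
  [0,0,0,0,0,2,0,4,-2,2,0,0,0,-4,0,2,0,0,0,0,2,-2,-2,-2],
  [0,0,0,4,0,2,0,0,-2,2,0,0,0,0,-4,-2,0,0,0,0,-2,2,2,-2],
  [0,0,0,0,-4,2,0,0,2,-2,0,4,0,0,0,-2,0,0,0,0,2,2,-2,-2],
  [0,0,4,0,0,2,0,0,-2,-2,0,0,0,0,0,2,-4,0,0,0,-2,2,-2,2],
  [0,0,0,0,0,2,0,0,2,2,4,0,0,0,0,-2,0,-4,0,0,-2,-2,-2,2],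
  [4,0,0,0,0,-2,0,0,-2,-2,0,0,0,0,0,-2,0,0,-4,0,-2,-2,-2,-2],
  [0,0,0,0,0,2,0,0,2,-2,0,0,4,0,0,2,0,0,0,-4,-2,-2,2,-2],
  [0,0,0,-4,0,2,0,0,-2,2,0,0,0,0,4,-2,0,0,0,0,-2,2,2,-2],
  [0,0,0,0,0,2,0,0,2,2,-4,0,0,0,0,-2,0,4,0,0,-2,-2,-2,2],
  [0,0,-4,0,0,2,0,0,-2,-2,0,0,0,0,0,2,4,0,0,0,-2,2,-2,2],
  [0,0,0,0,0,2,0,-4,-2,2,0,0,0,4,0,2,0,0,0,0,2,-2,-2,-2]]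

/-- the permutation of order seven -/
def pelM : List (List ℤ) := [
  [8,0,0,0,0,0,0,0,0,0,0,0,0,0,0,0,0,0,0,0,0,0,0,0],
  [0,0,0,0,0,0,0,8,0,0,0,0,0,0,0,0,0,0,0,0,0,0,0,0],
  [0,0,0,0,8,0,0,0,0,0,0,0,0,0,0,0,0,0,0,0,0,0,0,0],
  [0,0,0,0,0,0,0,0,0,0,0,0,8,0,0,0,0,0,0,0,0,0,0,0],
  [0,0,0,0,0,0,0,0,0,0,8,0,0,0,0,0,0,0,0,0,0,0,0,0],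
  [0,0,0,0,0,8,0,0,0,0,0,0,0,0,0,0,0,0,0,0,0,0,0,0],
  [0,0,0,0,0,0,0,0,0,0,0,0,0,8,0,0,0,0,0,0,0,0,0,0],
  [0,0,0,8,0,0,0,0,0,0,0,0,0,0,0,0,0,0,0,0,0,0,0,0],
  [0,0,0,0,0,0,0,0,0,0,0,0,0,0,0,0,0,0,0,0,0,0,0,8],
  [0,0,0,0,0,0,0,0,0,0,0,0,0,0,0,0,0,0,0,0,0,0,8,0],
  [0,8,0,0,0,0,0,0,0,0,0,0,0,0,0,0,0,0,0,0,0,0,0,0],
  [0,0,0,0,0,0,0,0,0,0,0,0,0,0,0,0,0,8,0,0,0,0,0,0],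
  [0,0,8,0,0,0,0,0,0,0,0,0,0,0,0,0,0,0,0,0,0,0,0,0],
  [0,0,0,0,0,0,0,0,0,0,0,0,0,0,8,0,0,0,0,0,0,0,0,0],
  [0,0,0,0,0,0,0,0,0,0,0,0,0,0,0,0,0,0,0,8,0,0,0,0],
  [0,0,0,0,0,0,0,0,0,0,0,0,0,0,0,0,0,0,0,0,0,8,0,0],
  [0,0,0,0,0,0,0,0,0,0,0,8,0,0,0,0,0,0,0,0,0,0,0,0],
  [0,0,0,0,0,0,8,0,0,0,0,0,0,0,0,0,0,0,0,0,0,0,0,0],
  [0,0,0,0,0,0,0,0,0,0,0,0,0,0,0,0,0,0,8,0,0,0,0,0],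
  [0,0,0,0,0,0,0,0,0,0,0,0,0,0,0,0,8,0,0,0,0,0,0,0],
  [0,0,0,0,0,0,0,0,0,8,0,0,0,0,0,0,0,0,0,0,0,0,0,0],
  [0,0,0,0,0,0,0,0,8,0,0,0,0,0,0,0,0,0,0,0,0,0,0,0],
  [0,0,0,0,0,0,0,0,0,0,0,0,0,0,0,8,0,0,0,0,0,0,0,0],
  [0,0,0,0,0,0,0,0,0,0,0,0,0,0,0,0,0,0,0,0,8,0,0,0]]

/-- a generator -/
def xM0 : List (List ℤ) := [
  [-4,0,0,-4,0,0,0,-4,0,0,-4,0,0,0,0,0,0,0,0,0,0,0,0,0],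
  [0,-4,4,0,-4,0,0,0,0,0,0,0,4,0,0,0,0,0,0,0,0,0,0,0],
  [0,-4,-4,0,4,0,0,0,0,0,0,0,4,0,0,0,0,0,0,0,0,0,0,0],
  [4,0,0,-4,0,0,0,4,0,0,-4,0,0,0,0,0,0,0,0,0,0,0,0,0],
  [0,4,-4,0,-4,0,0,0,0,0,0,0,4,0,0,0,0,0,0,0,0,0,0,0],
  [0,0,0,0,0,-4,0,0,0,0,0,0,0,0,0,0,0,0,0,0,-4,-4,0,-4],
  [0,0,0,0,0,0,-4,0,0,0,0,-4,0,0,0,0,4,0,0,4,0,0,0,0],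
  [4,0,0,-4,0,0,0,-4,0,0,4,0,0,0,0,0,0,0,0,0,0,0,0,0],
  [0,0,0,0,0,0,0,0,-4,4,0,0,0,0,0,-4,0,0,0,0,0,0,4,0],
  [0,0,0,0,0,0,0,0,-4,-4,0,0,0,0,0,-4,0,0,0,0,0,0,-4,0],
  [4,0,0,4,0,0,0,-4,0,0,-4,0,0,0,0,0,0,0,0,0,0,0,0,0],
  [0,0,0,0,0,0,4,0,0,0,0,-4,0,0,0,0,-4,0,0,4,0,0,0,0],
  [0,-4,-4,0,-4,0,0,0,0,0,0,0,-4,0,0,0,0,0,0,0,0,0,0,0],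
  [0,0,0,0,0,0,0,0,0,0,0,0,0,-4,-4,0,0,4,4,0,0,0,0,0],
  [0,0,0,0,0,0,0,0,0,0,0,0,0,4,-4,0,0,-4,4,0,0,0,0,0],
  [0,0,0,0,0,0,0,0,4,4,0,0,0,0,0,-4,0,0,0,0,0,0,-4,0],
  [0,0,0,0,0,0,-4,0,0,0,0,4,0,0,0,0,-4,0,0,4,0,0,0,0],
  [0,0,0,0,0,0,0,0,0,0,0,0,0,-4,4,0,0,-4,4,0,0,0,0,0],
  [0,0,0,0,0,0,0,0,0,0,0,0,0,-4,-4,0,0,-4,-4,0,0,0,0,0],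
  [0,0,0,0,0,0,-4,0,0,0,0,-4,0,0,0,0,-4,0,0,-4,0,0,0,0],
  [0,0,0,0,0,4,0,0,0,0,0,0,0,0,0,0,0,0,0,0,-4,-4,0,4],
  [0,0,0,0,0,4,0,0,0,0,0,0,0,0,0,0,0,0,0,0,4,-4,0,-4],
  [0,0,0,0,0,0,0,0,-4,4,0,0,0,0,0,4,0,0,0,0,0,0,-4,0],
  [0,0,0,0,0,4,0,0,0,0,0,0,0,0,0,0,0,0,0,0,-4,4,0,-4]]

/-- a generator -/
def xM1 : List (List ℤ) := [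
  [-4,-4,0,0,-4,0,0,-4,0,0,0,0,0,0,0,0,0,0,0,0,0,0,0,0],
  [4,-4,0,0,-4,0,0,4,0,0,0,0,0,0,0,0,0,0,0,0,0,0,0,0],
  [0,0,-4,4,0,0,0,0,0,0,-4,0,4,0,0,0,0,0,0,0,0,0,0,0],
  [0,0,-4,-4,0,0,0,0,0,0,-4,0,-4,0,0,0,0,0,0,0,0,0,0,0],
  [4,4,0,0,-4,0,0,-4,0,0,0,0,0,0,0,0,0,0,0,0,0,0,0,0],
  [0,0,0,0,0,-4,0,0,-4,0,0,0,0,0,0,-4,0,0,0,0,0,0,0,-4],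
  [0,0,0,0,0,0,-4,0,0,0,0,-4,0,4,0,0,0,0,4,0,0,0,0,0],
  [4,-4,0,0,4,0,0,-4,0,0,0,0,0,0,0,0,0,0,0,0,0,0,0,0],
  [0,0,0,0,0,4,0,0,-4,0,0,0,0,0,0,-4,0,0,0,0,0,0,0,4],
  [0,0,0,0,0,0,0,0,0,-4,0,0,0,0,0,0,0,0,0,0,4,4,-4,0],
  [0,0,4,4,0,0,0,0,0,0,-4,0,-4,0,0,0,0,0,0,0,0,0,0,0],
  [0,0,0,0,0,0,4,0,0,0,0,-4,0,-4,0,0,0,0,4,0,0,0,0,0],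
  [0,0,-4,4,0,0,0,0,0,0,4,0,-4,0,0,0,0,0,0,0,0,0,0,0],
  [0,0,0,0,0,0,-4,0,0,0,0,4,0,-4,0,0,0,0,4,0,0,0,0,0],
  [0,0,0,0,0,0,0,0,0,0,0,0,0,0,-4,0,-4,-4,0,-4,0,0,0,0],
  [0,0,0,0,0,4,0,0,4,0,0,0,0,0,0,-4,0,0,0,0,0,0,0,-4],
  [0,0,0,0,0,0,0,0,0,0,0,0,0,0,4,0,-4,-4,0,4,0,0,0,0],
  [0,0,0,0,0,0,0,0,0,0,0,0,0,0,4,0,4,-4,0,-4,0,0,0,0],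
  [0,0,0,0,0,0,-4,0,0,0,0,-4,0,-4,0,0,0,0,-4,0,0,0,0,0],
  [0,0,0,0,0,0,0,0,0,0,0,0,0,0,4,0,-4,4,0,-4,0,0,0,0],
  [0,0,0,0,0,0,0,0,0,-4,0,0,0,0,0,0,0,0,0,0,-4,-4,-4,0],
  [0,0,0,0,0,0,0,0,0,-4,0,0,0,0,0,0,0,0,0,0,4,-4,4,0],
  [0,0,0,0,0,0,0,0,0,4,0,0,0,0,0,0,0,0,0,0,4,-4,-4,0],
  [0,0,0,0,0,4,0,0,-4,0,0,0,0,0,0,4,0,0,0,0,0,0,0,-4]]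

/-- a generator -/
def xM2 : List (List ℤ) := [
  [-4,0,0,4,0,0,0,-4,0,0,-4,0,0,0,0,0,0,0,0,0,0,0,0,0],
  [0,-4,-4,0,-4,0,0,0,0,0,0,0,4,0,0,0,0,0,0,0,0,0,0,0],
  [0,4,-4,0,4,0,0,0,0,0,0,0,4,0,0,0,0,0,0,0,0,0,0,0],
  [-4,0,0,-4,0,0,0,4,0,0,-4,0,0,0,0,0,0,0,0,0,0,0,0,0],
  [0,4,-4,0,-4,0,0,0,0,0,0,0,-4,0,0,0,0,0,0,0,0,0,0,0],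
  [0,0,0,0,0,-4,0,0,0,0,0,0,0,0,0,0,0,0,0,0,4,-4,0,-4],
  [0,0,0,0,0,0,-4,0,0,0,0,-4,0,0,0,0,-4,0,0,4,0,0,0,0],
  [4,0,0,-4,0,0,0,-4,0,0,-4,0,0,0,0,0,0,0,0,0,0,0,0,0],
  [0,0,0,0,0,0,0,0,-4,4,0,0,0,0,0,-4,0,0,0,0,0,0,-4,0],
  [0,0,0,0,0,0,0,0,-4,-4,0,0,0,0,0,4,0,0,0,0,0,0,-4,0],
  [4,0,0,4,0,0,0,4,0,0,-4,0,0,0,0,0,0,0,0,0,0,0,0,0],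
  [0,0,0,0,0,0,4,0,0,0,0,-4,0,0,0,0,-4,0,0,-4,0,0,0,0],
  [0,-4,-4,0,4,0,0,0,0,0,0,0,-4,0,0,0,0,0,0,0,0,0,0,0],
  [0,0,0,0,0,0,0,0,0,0,0,0,0,-4,-4,0,0,-4,4,0,0,0,0,0],
  [0,0,0,0,0,0,0,0,0,0,0,0,0,4,-4,0,0,-4,-4,0,0,0,0,0],
  [0,0,0,0,0,0,0,0,4,-4,0,0,0,0,0,-4,0,0,0,0,0,0,-4,0],
  [0,0,0,0,0,0,4,0,0,0,0,4,0,0,0,0,-4,0,0,4,0,0,0,0],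
  [0,0,0,0,0,0,0,0,0,0,0,0,0,4,4,0,0,-4,4,0,0,0,0,0],
  [0,0,0,0,0,0,0,0,0,0,0,0,0,-4,4,0,0,-4,-4,0,0,0,0,0],
  [0,0,0,0,0,0,-4,0,0,0,0,4,0,0,0,0,-4,0,0,-4,0,0,0,0],
  [0,0,0,0,0,-4,0,0,0,0,0,0,0,0,0,0,0,0,0,0,-4,-4,0,4],
  [0,0,0,0,0,4,0,0,0,0,0,0,0,0,0,0,0,0,0,0,4,-4,0,4],
  [0,0,0,0,0,0,0,0,4,4,0,0,0,0,0,4,0,0,0,0,0,0,-4,0],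
  [0,0,0,0,0,4,0,0,0,0,0,0,0,0,0,0,0,0,0,0,-4,-4,0,-4]]

/-- a generator -/
def xM3 : List (List ℤ) := [
  [-4,0,4,0,0,0,0,-4,0,0,0,0,4,0,0,0,0,0,0,0,0,0,0,0],
  [0,-4,0,4,-4,0,0,0,0,0,4,0,0,0,0,0,0,0,0,0,0,0,0,0],
  [-4,0,-4,0,0,0,0,4,0,0,0,0,4,0,0,0,0,0,0,0,0,0,0,0],
  [0,-4,0,-4,-4,0,0,0,0,0,-4,0,0,0,0,0,0,0,0,0,0,0,0,0],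
  [0,4,0,4,-4,0,0,0,0,0,-4,0,0,0,0,0,0,0,0,0,0,0,0,0],
  [0,0,0,0,0,-4,0,0,0,4,0,0,0,0,0,0,0,0,0,0,0,0,4,-4],
  [0,0,0,0,0,0,-4,0,0,0,0,-4,0,0,4,0,0,4,0,0,0,0,0,0],
  [4,0,-4,0,0,0,0,-4,0,0,0,0,4,0,0,0,0,0,0,0,0,0,0,0],
  [0,0,0,0,0,0,0,0,-4,0,0,0,0,0,0,-4,0,0,0,0,4,4,0,0],
  [0,0,0,0,0,-4,0,0,0,-4,0,0,0,0,0,0,0,0,0,0,0,0,-4,-4],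
  [0,-4,0,4,4,0,0,0,0,0,-4,0,0,0,0,0,0,0,0,0,0,0,0,0],
  [0,0,0,0,0,0,4,0,0,0,0,-4,0,0,4,0,0,-4,0,0,0,0,0,0],
  [-4,0,-4,0,0,0,0,-4,0,0,0,0,-4,0,0,0,0,0,0,0,0,0,0,0],
  [0,0,0,0,0,0,0,0,0,0,0,0,0,-4,0,0,-4,0,4,4,0,0,0,0],
  [0,0,0,0,0,0,-4,0,0,0,0,-4,0,0,-4,0,0,-4,0,0,0,0,0,0],
  [0,0,0,0,0,0,0,0,4,0,0,0,0,0,0,-4,0,0,0,0,4,-4,0,0],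
  [0,0,0,0,0,0,0,0,0,0,0,0,0,4,0,0,-4,0,-4,4,0,0,0,0],
  [0,0,0,0,0,0,-4,0,0,0,0,4,0,0,4,0,0,-4,0,0,0,0,0,0],
  [0,0,0,0,0,0,0,0,0,0,0,0,0,-4,0,0,4,0,-4,4,0,0,0,0],
  [0,0,0,0,0,0,0,0,0,0,0,0,0,-4,0,0,-4,0,-4,-4,0,0,0,0],
  [0,0,0,0,0,0,0,0,-4,0,0,0,0,0,0,-4,0,0,0,0,-4,-4,0,0],
  [0,0,0,0,0,0,0,0,-4,0,0,0,0,0,0,4,0,0,0,0,4,-4,0,0],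
  [0,0,0,0,0,-4,0,0,0,4,0,0,0,0,0,0,0,0,0,0,0,0,-4,4],
  [0,0,0,0,0,4,0,0,0,4,0,0,0,0,0,0,0,0,0,0,0,0,-4,-4]]

/-- a generator -/
def xM4 : List (List ℤ) := [
  [-4,0,4,0,0,0,0,-4,0,0,0,0,-4,0,0,0,0,0,0,0,0,0,0,0],
  [0,-4,0,4,-4,0,0,0,0,0,-4,0,0,0,0,0,0,0,0,0,0,0,0,0],
  [-4,0,-4,0,0,0,0,-4,0,0,0,0,4,0,0,0,0,0,0,0,0,0,0,0],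
  [0,-4,0,-4,4,0,0,0,0,0,-4,0,0,0,0,0,0,0,0,0,0,0,0,0],
  [0,4,0,-4,-4,0,0,0,0,0,-4,0,0,0,0,0,0,0,0,0,0,0,0,0],
  [0,0,0,0,0,-4,0,0,0,-4,0,0,0,0,0,0,0,0,0,0,0,0,4,-4],
  [0,0,0,0,0,0,-4,0,0,0,0,-4,0,0,4,0,0,-4,0,0,0,0,0,0],
  [4,0,4,0,0,0,0,-4,0,0,0,0,4,0,0,0,0,0,0,0,0,0,0,0],
  [0,0,0,0,0,0,0,0,-4,0,0,0,0,0,0,-4,0,0,0,0,4,-4,0,0],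
  [0,0,0,0,0,4,0,0,0,-4,0,0,0,0,0,0,0,0,0,0,0,0,-4,-4],
  [0,4,0,4,4,0,0,0,0,0,-4,0,0,0,0,0,0,0,0,0,0,0,0,0],
  [0,0,0,0,0,0,4,0,0,0,0,-4,0,0,-4,0,0,-4,0,0,0,0,0,0],
  [4,0,-4,0,0,0,0,-4,0,0,0,0,-4,0,0,0,0,0,0,0,0,0,0,0],
  [0,0,0,0,0,0,0,0,0,0,0,0,0,-4,0,0,4,0,4,4,0,0,0,0],
  [0,0,0,0,0,0,-4,0,0,0,0,4,0,0,-4,0,0,-4,0,0,0,0,0,0],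
  [0,0,0,0,0,0,0,0,4,0,0,0,0,0,0,-4,0,0,0,0,-4,-4,0,0],
  [0,0,0,0,0,0,0,0,0,0,0,0,0,-4,0,0,-4,0,-4,4,0,0,0,0],
  [0,0,0,0,0,0,4,0,0,0,0,4,0,0,4,0,0,-4,0,0,0,0,0,0],
  [0,0,0,0,0,0,0,0,0,0,0,0,0,-4,0,0,4,0,-4,-4,0,0,0,0],
  [0,0,0,0,0,0,0,0,0,0,0,0,0,-4,0,0,-4,0,4,-4,0,0,0,0],
  [0,0,0,0,0,0,0,0,-4,0,0,0,0,0,0,4,0,0,0,0,-4,-4,0,0],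
  [0,0,0,0,0,0,0,0,4,0,0,0,0,0,0,4,0,0,0,0,4,-4,0,0],
  [0,0,0,0,0,-4,0,0,0,4,0,0,0,0,0,0,0,0,0,0,0,0,-4,-4],
  [0,0,0,0,0,4,0,0,0,4,0,0,0,0,0,0,0,0,0,0,0,0,4,-4]]

/-- signs of the relations -/
def relSign : List (List ℕ) := [[0,1,1,1,1], [1,0,1,1,1], [1,1,0,1,1], [1,1,1,0,1], [1,1,1,1,0]]

/-- representatives of the residues -/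
def resB : List (List ℤ) := [
  [2,-2,0,0,0,-2,0,2,0,0,0,0,2,0,0,0,0,2,2,0,0,2,0,0],
  [-1,3,1,-1,-1,-1,-1,-1,-1,-1,1,1,-1,-1,1,1,-1,1,1,-1,-1,-1,-1,1],
  [1,-1,1,1,-1,3,-1,1,-1,-1,1,1,1,1,1,-1,1,-1,-1,-1,1,1,-1,-1],
  [-1,-1,-1,-1,-1,-1,1,1,-1,1,1,-3,-1,1,-1,-1,1,1,-1,1,1,-1,1,1]]

/-- witnesses for the generators of the lattice -/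
def resW : List (List ℤ × List ℤ) := [
  ([1,2,3,0], [-5,3,-3,1,-1,1,5,-5,1,1,-3,-3,-3,1,-1,5,3,-1,-3,3,1,-3,5,5]),
  ([2,1,3,-1], [-8,6,-2,2,-4,0,4,0,0,0,-2,-4,-4,2,0,6,4,-2,-4,4,0,-4,6,0]),
  ([-3,1,3,2], [6,0,-4,-2,2,-6,4,-10,6,2,-6,0,-2,-4,-2,2,-2,4,2,-2,0,2,2,8]),
  ([-2,0,3,1], [3,3,-3,-1,-1,-7,3,-5,5,1,-5,-1,-3,-3,-1,3,-1,3,1,-1,-1,1,3,3]),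
  ([-2,-3,2,-3], [-2,4,-2,-8,-8,-8,0,10,-2,4,0,-2,-2,6,0,8,-2,2,0,4,2,-4,2,6]),
  ([-1,3,2,3], [5,-5,-1,1,9,-1,5,-13,7,-1,-3,1,-1,-7,-3,-3,-1,3,1,-3,-1,3,3,1]),
  ([3,-2,2,2], [-5,11,9,7,-7,-1,-3,-1,1,-1,5,1,-11,3,3,5,-1,-1,1,-3,-1,-5,-3,1]),
  ([-3,-3,2,1], [7,1,-1,-3,-5,-11,-1,-3,5,1,-1,1,-3,-3,-1,3,-5,5,3,-3,-1,1,-1,3]),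
  ([-1,-3,1,0], [2,6,0,-2,-4,-6,-2,2,0,2,2,0,-6,2,2,4,-4,2,2,-2,0,-2,-2,4]),
  ([0,3,1,-1], [-2,-2,-6,2,6,2,6,-4,0,0,-2,-4,4,-2,-2,0,4,0,-2,4,0,0,6,0]),
  ([0,1,1,-2], [-5,1,-3,-1,-1,3,3,3,-3,1,-1,-3,3,3,-1,3,3,-1,-1,5,1,-3,3,3]),
  ([1,0,1,-3], [-8,4,-2,0,-4,2,2,8,-4,0,0,-4,2,4,0,4,4,-2,-2,6,0,-4,4,-2]),
  ([-1,2,2,-2], [-4,0,-6,-2,0,0,8,0,-2,2,-4,-4,4,2,-2,4,4,0,-2,6,2,-2,6,6]),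
  ([0,1,2,-3], [-7,3,-5,-1,-3,-1,7,5,-3,1,-3,-5,3,3,-1,5,5,-1,-3,7,1,-3,7,1]),
  ([-2,2,0,2], [8,-8,-4,0,8,0,2,-8,4,0,-4,2,4,-6,-2,-4,-2,2,2,-2,0,4,0,4]),
  ([-1,1,0,1], [5,-5,-3,1,5,-1,1,-3,3,-1,-3,1,3,-5,-1,-3,-1,1,1,-1,-1,3,1,-1]),
  ([1,3,1,1], [-3,-1,-1,3,5,5,5,-7,3,-1,-1,-1,1,-1,-1,-1,3,-1,-1,1,1,-1,3,3]),
  ([2,2,1,0], [-6,2,0,4,2,4,4,-2,2,-2,0,-2,0,0,0,0,4,-2,-2,2,0,-2,4,-2]),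
  ([2,2,2,0], [-8,4,0,4,0,4,4,-2,0,2,0,-2,-2,2,0,4,4,-2,-2,4,0,-4,4,2]),
  ([3,1,2,-1], [-11,7,1,5,-3,3,3,3,-1,1,1,-3,-3,3,1,5,5,-3,-3,5,-1,-5,5,-3]),
  ([-2,0,0,-2], [2,-2,-6,-6,-2,-2,2,4,-2,2,0,-2,6,2,-2,2,0,0,0,4,2,0,2,4]),
  ([-1,-1,0,-3], [-1,1,-5,-5,-5,-3,1,9,-3,1,1,-3,5,3,-1,3,1,-1,-1,5,1,-1,3,-1]),
  ([-2,-3,3,-1], [-1,7,-3,-5,-7,-9,1,3,1,3,-1,1,-5,3,1,7,-3,3,1,1,1,-3,1,7]),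
  ([-1,3,3,-2], [-5,-1,-9,-1,3,-1,9,-3,1,1,-5,-3,5,-1,-3,3,5,1,-3,7,1,-1,9,3]),
  ([0,-2,-1,-1], [1,3,3,-3,-3,-1,-3,5,-3,1,1,1,1,3,1,1,-1,-1,1,-1,1,-1,-3,1]),
  ([1,-3,-1,-2], [-2,6,4,-2,-6,-2,-4,10,-4,0,2,0,0,4,2,2,0,-2,0,0,0,-2,-2,-4]),
  ([2,-2,0,-2], [-7,7,3,1,-7,1,-3,11,-5,1,3,-1,-3,9,3,5,1,-3,-1,3,1,-5,-1,-1]),
  ([3,-3,0,-3], [-10,10,4,2,-10,0,-4,16,-6,0,4,-2,-4,10,4,6,2,-4,-2,4,0,-6,0,-6]),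
  ([3,0,-1,-2], [-8,4,4,4,-4,6,-2,8,-6,0,4,-2,0,6,4,2,4,-4,-2,4,0,-4,0,-2]),
  ([-3,-1,-1,-3], [4,-6,-6,-6,-2,-4,0,6,-2,2,-2,-2,8,0,0,0,0,2,0,4,0,2,2,0]),
  ([-3,-3,-2,-2], [6,-4,-2,-8,-4,-4,-4,8,-2,2,0,2,4,2,0,2,-4,2,2,0,2,2,-4,2]),
  ([-2,3,-2,-3], [2,-12,-8,-4,6,4,4,2,-2,0,-4,-2,14,-2,-4,-2,4,0,-2,6,2,4,4,-2]),
  ([2,-3,-1,-3], [-7,7,5,-1,-9,1,-5,15,-7,1,5,-1,-3,9,3,5,3,-3,-1,3,1,-5,-3,-1]),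
  ([3,3,-1,3], [0,-2,6,8,8,8,0,-8,2,-4,2,2,-2,-4,0,-6,4,-2,0,-4,-2,2,-2,-6]),
  ([2,-1,0,0], [-4,6,4,2,-4,2,-2,4,-2,0,4,0,-4,4,2,2,0,0,0,0,0,-4,-2,0]),
  ([3,-2,0,-1], [-7,9,5,3,-7,1,-3,9,-3,-1,5,-1,-5,5,3,3,1,-1,-1,1,-1,-5,-1,-5]),
  ([-3,-2,2,-1], [3,1,-5,-7,-5,-9,1,1,1,3,-3,-1,-1,1,-1,5,-3,3,3,1,1,-1,1,7]),
  ([-2,-3,2,-2], [0,4,-4,-6,-8,-10,0,6,0,2,-2,-2,-2,2,0,6,-2,2,2,2,0,-2,2,2]),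
  ([1,0,-3,3], [7,-3,7,3,5,5,-5,-5,1,-3,3,5,-1,-3,1,-7,-3,-1,3,-5,-1,3,-7,-3]),
  ([2,-1,-3,2], [4,0,8,4,2,4,-6,0,0,-4,4,4,-2,-2,2,-6,-2,-2,2,-4,-2,2,-6,-8]),
  ([3,2,3,1], [-10,8,2,6,0,4,4,-4,0,0,0,-2,-6,2,2,4,4,-2,-2,2,2,-4,4,2]),
  ([-3,1,3,0], [2,-2,-8,-4,2,-6,6,-6,4,2,-6,-2,2,-4,-2,2,0,4,0,2,2,2,6,4]),
  ([-1,-2,0,2], [5,1,3,-1,-1,-3,-3,-3,3,1,1,3,-5,-1,1,-1,-5,3,3,-5,-1,3,-5,3]),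
  ([0,-3,0,1], [2,4,4,0,-4,-4,-4,2,2,0,2,2,-6,0,2,0,-4,2,2,-4,-2,2,-4,-2]),
  ([-1,-3,3,-3], [-7,9,-3,-5,-11,-7,1,9,-3,3,-1,-3,-3,7,1,11,1,1,-1,5,1,-5,5,7]),
  ([0,3,3,3], [0,0,-2,4,6,0,6,-14,6,-2,-4,0,-2,-6,-2,0,2,2,0,-2,-2,2,6,2]),
  ([-1,-1,-2,-2], [7,-3,-1,-3,-1,-1,-3,7,-3,1,1,-1,5,1,-1,-1,-1,-1,1,1,1,1,-1,-1]),
  ([1,1,3,0], [-4,6,0,4,0,0,4,-2,2,0,0,-2,-4,2,0,4,2,0,0,2,0,-4,4,2]),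
  ([1,3,-2,3], [8,-6,2,6,8,8,0,-8,2,-2,0,2,2,-6,0,-8,0,-2,2,-4,-2,4,-2,-4]),
  ([2,1,1,-1], [-5,5,1,3,-1,3,3,5,-1,-1,1,-1,-1,3,1,3,3,-3,-1,3,1,-3,3,-1]),
  ([1,1,-1,0], [2,0,0,2,2,4,0,0,0,0,2,0,0,0,0,-2,2,-2,0,0,0,0,0,-2]),
  ([0,-3,-1,2], [8,2,4,2,-2,-2,-6,0,2,0,4,4,-6,-2,2,-2,-6,2,4,-6,-2,0,-6,-2]),
  ([-3,3,3,0], [5,-7,-9,-3,5,-3,9,-9,5,1,-7,-3,5,-5,-5,1,1,3,1,3,1,1,7,7]),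
  ([2,-3,-3,2], [6,4,10,6,-2,2,-8,4,0,-2,6,4,-6,0,4,-4,-4,-2,4,-6,-2,0,-8,-6]),
  ([-2,0,-2,0], [9,-7,-3,-3,5,1,-1,1,1,1,1,1,5,-3,-1,-5,-3,1,3,-1,1,3,-1,-1]),
  ([2,2,2,-3], [-11,5,-3,3,-3,5,7,5,-3,1,1,-5,3,5,-1,5,7,-3,-3,9,1,-5,7,1]),
  ([-3,3,3,-1], [3,-5,-9,-3,3,-3,9,-7,3,3,-7,-3,5,-3,-5,3,3,3,-1,5,1,1,9,7]),
  ([-2,0,-1,-3], [4,-4,-6,-6,0,0,2,6,-4,2,0,-2,6,2,-2,0,0,0,0,4,2,0,2,2]),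
  ([3,2,-2,1], [1,-1,5,7,5,9,-1,-1,-1,-3,3,1,1,-1,1,-5,3,-3,1,-1,-1,1,-1,-7])]

/-- fixed vectors -/
def fixV : List (ℕ × List ℤ) := [
  (0, [56,0,0,0,0,0,0,0,0,0,0,0,0,0,0,0,0,0,0,0,0,0,0,0]),
  (3, [0,16,-4,4,4,0,0,-8,0,-8,-8,4,-4,-8,8,0,0,4,0,-8,-8,8,4,4]),
  (5, [0,16,4,-8,-8,0,0,-4,0,0,-4,4,4,0,-8,8,8,-8,0,4,4,-8,-8,4]),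
  (6, [0,16,-8,-4,-4,0,0,4,0,8,4,-8,-8,8,0,-8,-8,4,0,4,4,0,4,-8])]

end Cfsg.Agent.Spor.CoSeven
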