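import Mathlib

/-!
Powers of the matrices of order seven.
-/

set_option autoImplicit false

namespace Cfsg.Agent.Spor.CoSeven

/-- a power -/
def gp1 : List (List ℤ) := [
  [2,-2,-2,-2,-2,0,-2,-2,0,0,-2,-2,-2,-2,-2,0,-2,-2,2,-2,0,0,0,0],
  [2,2,2,2,-2,0,2,2,0,0,-2,-2,-2,2,2,0,2,-2,2,-2,0,0,0,0],
  [2,-2,2,-2,2,0,-2,2,0,0,2,2,-2,2,-2,0,2,2,2,-2,0,0,0,0],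
  [2,-2,2,2,-2,0,-2,-2,0,0,2,-2,2,-2,2,0,2,2,2,2,0,0,0,0],
  [2,2,-2,2,2,0,2,-2,0,0,2,2,-2,-2,2,0,-2,2,2,-2,0,0,0,0],
  [-4,0,0,0,0,-2,0,0,-2,-2,0,0,0,0,0,-2,0,0,4,0,-2,-2,-2,-2],
  [0,4,0,0,0,2,-4,0,-2,-2,0,0,0,0,0,-2,0,0,0,0,2,-2,2,2],
  [2,-2,-2,2,2,0,-2,2,0,0,-2,2,2,2,2,0,-2,-2,2,2,0,0,0,0],
  [0,-4,0,0,0,2,4,0,-2,-2,0,0,0,0,0,-2,0,0,0,0,2,-2,2,2],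
  [0,0,0,0,0,2,0,0,2,-2,0,0,-4,0,0,2,0,0,0,4,-2,-2,2,-2],
  [2,2,-2,-2,-2,0,2,2,0,0,2,-2,2,2,-2,0,-2,2,2,2,0,0,0,0],
  [0,0,0,0,4,2,0,0,2,-2,0,-4,0,0,0,-2,0,0,0,0,2,2,-2,-2],
  [2,2,2,-2,2,0,2,-2,0,0,-2,2,2,-2,-2,0,2,-2,2,2,0,0,0,0],
  [0,0,0,0,0,2,0,4,-2,2,0,0,0,-4,0,2,0,0,0,0,2,-2,-2,-2],
  [0,0,0,4,0,2,0,0,-2,2,0,0,0,0,-4,-2,0,0,0,0,-2,2,2,-2],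
  [0,0,0,0,-4,2,0,0,2,-2,0,4,0,0,0,-2,0,0,0,0,2,2,-2,-2],
  [0,0,4,0,0,2,0,0,-2,-2,0,0,0,0,0,2,-4,0,0,0,-2,2,-2,2],
  [0,0,0,0,0,2,0,0,2,2,4,0,0,0,0,-2,0,-4,0,0,-2,-2,-2,2],
  [4,0,0,0,0,-2,0,0,-2,-2,0,0,0,0,0,-2,0,0,-4,0,-2,-2,-2,-2],
  [0,0,0,0,0,2,0,0,2,-2,0,0,4,0,0,2,0,0,0,-4,-2,-2,2,-2],
  [0,0,0,-4,0,2,0,0,-2,2,0,0,0,0,4,-2,0,0,0,0,-2,2,2,-2],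
  [0,0,0,0,0,2,0,0,2,2,-4,0,0,0,0,-2,0,4,0,0,-2,-2,-2,2],
  [0,0,-4,0,0,2,0,0,-2,-2,0,0,0,0,0,2,4,0,0,0,-2,2,-2,2],
  [0,0,0,0,0,2,0,-4,-2,2,0,0,0,4,0,2,0,0,0,0,2,-2,-2,-2]]

/-- a power -/
def gp2 : List (List ℤ) := [
  [-2,-2,-2,-2,-2,-4,0,-2,0,0,-2,0,-2,0,0,0,0,0,-4,0,0,0,0,0],
  [2,-2,2,2,-2,0,-4,2,-4,0,-2,0,-2,0,0,0,0,0,0,0,0,0,0,0],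
  [2,-2,-2,-2,2,0,0,2,0,0,2,0,-2,0,0,0,-4,0,0,0,0,0,-4,0],
  [2,-2,2,-2,-2,0,0,-2,0,0,2,0,2,0,-4,0,0,0,0,0,-4,0,0,0],
  [2,2,-2,2,-2,0,0,-2,0,0,2,-4,-2,0,0,-4,0,0,0,0,0,0,0,0],
  [2,2,2,2,2,-4,0,2,0,0,2,0,2,0,0,0,0,0,-4,0,0,0,0,0],
  [0,0,0,0,0,-2,2,0,-2,2,0,-2,0,2,2,2,2,-2,2,-2,-2,2,-2,-2],
  [2,-2,-2,2,2,0,0,-2,0,0,-2,0,2,-4,0,0,0,0,0,0,0,0,0,-4],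
  [-2,2,-2,-2,2,0,-4,-2,-4,0,2,0,2,0,0,0,0,0,0,0,0,0,0,0],
  [-2,-2,-2,2,-2,0,0,2,0,-4,2,0,2,0,0,0,0,0,0,-4,0,0,0,0],
  [2,2,-2,-2,-2,0,0,2,0,0,-2,0,2,0,0,0,0,-4,0,0,0,-4,0,0],
  [0,0,0,0,0,-2,2,0,-2,2,0,2,0,-2,2,-2,-2,2,2,-2,-2,-2,2,2],
  [2,2,2,-2,2,0,0,-2,0,-4,-2,0,-2,0,0,0,0,0,0,-4,0,0,0,0],
  [0,0,0,0,0,-2,-2,0,2,-2,0,2,0,2,2,-2,-2,-2,2,2,-2,2,2,-2],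
  [0,0,0,0,0,-2,-2,0,2,-2,0,-2,0,-2,2,2,2,2,2,2,-2,-2,-2,2],
  [-2,-2,2,-2,2,0,0,2,0,0,-2,-4,2,0,0,-4,0,0,0,0,0,0,0,0],
  [0,0,0,0,0,-2,-2,0,2,2,0,2,0,2,-2,-2,2,2,2,-2,2,-2,-2,-2],
  [0,0,0,0,0,-2,2,0,-2,-2,0,-2,0,2,-2,2,-2,2,2,2,2,-2,2,-2],
  [0,0,0,0,0,-2,-2,0,2,2,0,-2,0,-2,-2,2,-2,-2,2,-2,2,2,2,2],
  [0,0,0,0,0,-2,2,0,-2,-2,0,2,0,-2,-2,-2,2,-2,2,2,2,2,-2,2],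
  [-2,2,-2,2,2,0,0,2,0,0,-2,0,-2,0,-4,0,0,0,0,0,-4,0,0,0],
  [-2,-2,2,2,2,0,0,-2,0,0,2,0,-2,0,0,0,0,-4,0,0,0,-4,0,0],
  [-2,2,2,2,-2,0,0,-2,0,0,-2,0,2,0,0,0,-4,0,0,0,0,0,-4,0],
  [-2,2,2,-2,-2,0,0,2,0,0,2,0,-2,-4,0,0,0,0,0,0,0,0,0,-4]]

/-- a power -/
def gp3 : List (List ℤ) := [
  [-4,0,0,0,0,2,0,0,2,2,0,0,0,0,0,2,0,0,-4,0,2,2,2,2],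
  [0,-4,0,0,0,-2,-4,0,2,2,0,0,0,0,0,2,0,0,0,0,-2,2,-2,-2],
  [0,0,-4,0,0,-2,0,0,2,2,0,0,0,0,0,-2,-4,0,0,0,2,-2,2,-2],
  [0,0,0,-4,0,-2,0,0,2,-2,0,0,0,0,-4,2,0,0,0,0,2,-2,-2,2],
  [0,0,0,0,-4,-2,0,0,-2,2,0,-4,0,0,0,2,0,0,0,0,-2,-2,2,2],
  [4,0,0,0,0,2,0,0,2,2,0,0,0,0,0,2,0,0,4,0,2,2,2,2],
  [2,2,2,2,-2,0,-2,2,0,0,-2,2,-2,-2,-2,0,-2,2,-2,2,0,0,0,0],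
  [0,0,0,0,0,-2,0,-4,2,-2,0,0,0,-4,0,-2,0,0,0,0,-2,2,2,2],
  [0,4,0,0,0,-2,4,0,2,2,0,0,0,0,0,2,0,0,0,0,-2,2,-2,-2],
  [0,0,0,0,0,-2,0,0,-2,2,0,0,4,0,0,-2,0,0,0,4,2,2,-2,2],
  [0,0,0,0,0,-2,0,0,-2,-2,-4,0,0,0,0,2,0,-4,0,0,2,2,2,-2],
  [2,2,-2,2,2,0,-2,-2,0,0,2,-2,-2,2,-2,0,2,-2,-2,2,0,0,0,0],
  [0,0,0,0,0,-2,0,0,-2,2,0,0,-4,0,0,-2,0,0,0,-4,2,2,-2,2],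
  [2,-2,-2,2,2,0,2,2,0,0,-2,-2,2,-2,-2,0,2,2,-2,-2,0,0,0,0],
  [2,-2,2,2,-2,0,2,-2,0,0,2,2,2,2,-2,0,-2,-2,-2,-2,0,0,0,0],
  [0,0,0,0,4,-2,0,0,-2,2,0,4,0,0,0,2,0,0,0,0,-2,-2,2,2],
  [2,-2,2,-2,2,0,2,2,0,0,2,-2,-2,-2,2,0,-2,-2,-2,2,0,0,0,0],
  [2,2,-2,-2,-2,0,-2,2,0,0,2,2,2,-2,2,0,2,-2,-2,-2,0,0,0,0],
  [2,-2,-2,-2,-2,0,2,-2,0,0,-2,2,-2,2,2,0,2,2,-2,2,0,0,0,0],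
  [2,2,2,-2,2,0,-2,-2,0,0,-2,-2,2,2,2,0,-2,2,-2,-2,0,0,0,0],
  [0,0,0,4,0,-2,0,0,2,-2,0,0,0,0,4,2,0,0,0,0,2,-2,-2,2],
  [0,0,0,0,0,-2,0,0,-2,-2,4,0,0,0,0,2,0,4,0,0,2,2,2,-2],
  [0,0,4,0,0,-2,0,0,2,2,0,0,0,0,0,-2,4,0,0,0,2,-2,2,-2],
  [0,0,0,0,0,-2,0,4,2,-2,0,0,0,4,0,-2,0,0,0,0,-2,2,2,2]]

/-- a power -/
def gp4 : List (List ℤ) := [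
  [-4,0,0,0,0,4,2,0,0,0,0,2,0,2,2,0,2,2,2,2,0,0,0,0],
  [0,-4,0,0,0,0,2,0,4,0,0,2,0,-2,-2,0,-2,2,-2,2,0,0,0,0],
  [0,0,-4,0,0,0,2,0,0,0,0,-2,0,-2,2,0,2,-2,-2,2,0,0,4,0],
  [0,0,0,-4,0,0,2,0,0,0,0,2,0,2,2,0,-2,-2,-2,-2,4,0,0,0],
  [0,0,0,0,-4,0,-2,0,0,0,0,2,0,2,-2,4,2,-2,-2,2,0,0,0,0],
  [2,-2,-2,-2,-2,2,0,-2,-2,-2,-2,0,-2,0,0,-2,0,0,0,0,-2,-2,-2,-2],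
  [0,-4,0,0,0,0,-2,0,4,0,0,-2,0,2,2,0,2,-2,2,-2,0,0,0,0],
  [0,0,0,0,0,0,2,-4,0,0,0,-2,0,2,-2,0,2,2,-2,-2,0,0,0,4],
  [2,2,2,2,-2,2,0,2,2,-2,-2,0,-2,0,0,-2,0,0,0,0,2,-2,2,2],
  [2,2,2,-2,2,2,0,-2,2,2,-2,0,2,0,0,2,0,0,0,0,-2,-2,2,-2],
  [0,0,0,0,0,0,-2,0,0,0,-4,2,0,-2,2,0,2,2,-2,-2,0,4,0,0],
  [0,0,0,0,-4,0,2,0,0,0,0,-2,0,-2,2,4,-2,2,2,-2,0,0,0,0],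
  [0,0,0,0,0,0,-2,0,0,4,0,-2,-4,2,2,0,-2,2,-2,2,0,0,0,0],
  [0,0,0,0,0,0,-2,-4,0,0,0,2,0,-2,2,0,-2,-2,2,2,0,0,0,4],
  [0,0,0,-4,0,0,-2,0,0,0,0,-2,0,-2,-2,0,2,2,2,2,4,0,0,0],
  [2,2,-2,2,2,2,0,-2,2,-2,2,0,-2,0,0,2,0,0,0,0,2,2,-2,-2],
  [0,0,-4,0,0,0,-2,0,0,0,0,2,0,2,-2,0,-2,2,2,-2,0,0,4,0],
  [0,0,0,0,0,0,2,0,0,0,-4,-2,0,2,-2,0,-2,-2,2,2,0,4,0,0],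
  [-4,0,0,0,0,4,-2,0,0,0,0,-2,0,-2,-2,0,-2,-2,-2,-2,0,0,0,0],
  [0,0,0,0,0,0,2,0,0,4,0,2,-4,-2,-2,0,2,-2,2,-2,0,0,0,0],
  [2,-2,2,2,-2,2,0,-2,-2,2,2,0,2,0,0,-2,0,0,0,0,2,2,2,-2],
  [2,2,-2,-2,-2,2,0,2,2,2,2,0,2,0,0,-2,0,0,0,0,-2,2,-2,2],
  [2,-2,2,-2,2,2,0,2,-2,-2,2,0,-2,0,0,2,0,0,0,0,-2,2,2,2],
  [2,-2,-2,2,2,2,0,2,-2,2,-2,0,2,0,0,2,0,0,0,0,2,-2,-2,2]]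

/-- a power -/
def gp5 : List (List ℤ) := [
  [-2,2,2,2,2,2,0,2,-2,-2,2,0,2,0,0,-2,0,0,0,0,-2,-2,-2,-2],
  [-2,-2,-2,-2,2,2,0,-2,2,-2,2,0,2,0,0,-2,0,0,0,0,2,-2,2,2],
  [-2,2,-2,2,-2,2,0,-2,-2,-2,-2,0,2,0,0,2,0,0,0,0,-2,2,2,2],
  [-2,2,-2,-2,2,2,0,2,-2,2,-2,0,-2,0,0,-2,0,0,0,0,2,2,2,-2],
  [-2,-2,2,-2,-2,2,0,2,2,-2,-2,0,2,0,0,2,0,0,0,0,2,2,-2,-2],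
  [-4,0,0,0,0,-4,-2,0,0,0,0,-2,0,-2,-2,0,-2,-2,-2,-2,0,0,0,0],
  [0,-4,0,0,0,0,2,0,-4,0,0,2,0,-2,-2,0,-2,2,-2,2,0,0,0,0],
  [-2,2,2,-2,-2,2,0,-2,-2,2,2,0,-2,0,0,2,0,0,0,0,2,-2,-2,2],
  [0,-4,0,0,0,0,-2,0,-4,0,0,-2,0,2,2,0,2,-2,2,-2,0,0,0,0],
  [0,0,0,0,0,0,2,0,0,-4,0,2,-4,-2,-2,0,2,-2,2,-2,0,0,0,0],
  [-2,-2,2,2,2,2,0,-2,2,2,-2,0,-2,0,0,-2,0,0,0,0,-2,2,-2,2],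
  [0,0,0,0,-4,0,-2,0,0,0,0,2,0,2,-2,-4,2,-2,-2,2,0,0,0,0],
  [-2,-2,-2,2,-2,2,0,2,2,2,2,0,-2,0,0,2,0,0,0,0,-2,-2,2,-2],
  [0,0,0,0,0,0,2,-4,0,0,0,-2,0,2,-2,0,2,2,-2,-2,0,0,0,-4],
  [0,0,0,-4,0,0,2,0,0,0,0,2,0,2,2,0,-2,-2,-2,-2,-4,0,0,0],
  [0,0,0,0,-4,0,2,0,0,0,0,-2,0,-2,2,-4,-2,2,2,-2,0,0,0,0],
  [0,0,-4,0,0,0,2,0,0,0,0,-2,0,-2,2,0,2,-2,-2,2,0,0,-4,0],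
  [0,0,0,0,0,0,-2,0,0,0,-4,2,0,-2,2,0,2,2,-2,-2,0,-4,0,0],
  [-4,0,0,0,0,-4,2,0,0,0,0,2,0,2,2,0,2,2,2,2,0,0,0,0],
  [0,0,0,0,0,0,-2,0,0,-4,0,-2,-4,2,2,0,-2,2,-2,2,0,0,0,0],
  [0,0,0,-4,0,0,-2,0,0,0,0,-2,0,-2,-2,0,2,2,2,2,-4,0,0,0],
  [0,0,0,0,0,0,2,0,0,0,-4,-2,0,2,-2,0,-2,-2,2,2,0,-4,0,0],
  [0,0,-4,0,0,0,-2,0,0,0,0,2,0,2,-2,0,-2,2,2,-2,0,0,-4,0],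
  [0,0,0,0,0,0,-2,-4,0,0,0,2,0,-2,2,0,-2,-2,2,2,0,0,0,-4]]

/-- a power -/
def gp6 : List (List ℤ) := [
  [2,2,2,2,2,-4,0,2,0,0,2,0,2,0,0,0,0,0,4,0,0,0,0,0],
  [-2,2,-2,-2,2,0,4,-2,-4,0,2,0,2,0,0,0,0,0,0,0,0,0,0,0],
  [-2,2,2,2,-2,0,0,-2,0,0,-2,0,2,0,0,0,4,0,0,0,0,0,-4,0],
  [-2,2,-2,2,2,0,0,2,0,0,-2,0,-2,0,4,0,0,0,0,0,-4,0,0,0],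
  [-2,-2,2,-2,2,0,0,2,0,0,-2,4,2,0,0,-4,0,0,0,0,0,0,0,0],
  [0,0,0,0,0,-2,2,0,2,2,0,2,0,2,2,2,2,2,-2,2,2,2,2,2],
  [-2,2,-2,-2,2,0,-4,-2,4,0,2,0,2,0,0,0,0,0,0,0,0,0,0,0],
  [-2,2,2,-2,-2,0,0,2,0,0,2,0,-2,4,0,0,0,0,0,0,0,0,0,-4],
  [0,0,0,0,0,-2,-2,0,-2,2,0,2,0,-2,-2,2,-2,2,-2,2,-2,2,-2,-2],
  [0,0,0,0,0,-2,-2,0,-2,-2,0,-2,0,2,2,-2,-2,2,-2,-2,2,2,-2,2],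
  [-2,-2,2,2,2,0,0,-2,0,0,2,0,-2,0,0,0,0,4,0,0,0,-4,0,0],
  [-2,-2,2,-2,2,0,0,2,0,0,-2,-4,2,0,0,4,0,0,0,0,0,0,0,0],
  [-2,-2,-2,2,-2,0,0,2,0,-4,2,0,2,0,0,0,0,0,0,4,0,0,0,0],
  [-2,2,2,-2,-2,0,0,2,0,0,2,0,-2,-4,0,0,0,0,0,0,0,0,0,4],
  [-2,2,-2,2,2,0,0,2,0,0,-2,0,-2,0,-4,0,0,0,0,0,4,0,0,0],
  [0,0,0,0,0,-2,-2,0,-2,2,0,-2,0,2,-2,-2,2,-2,-2,2,-2,-2,2,2],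
  [-2,2,2,2,-2,0,0,-2,0,0,-2,0,2,0,0,0,-4,0,0,0,0,0,4,0],
  [-2,-2,2,2,2,0,0,-2,0,0,2,0,-2,0,0,0,0,-4,0,0,0,4,0,0],
  [2,2,2,2,2,4,0,2,0,0,2,0,2,0,0,0,0,0,-4,0,0,0,0,0],
  [-2,-2,-2,2,-2,0,0,2,0,4,2,0,2,0,0,0,0,0,0,-4,0,0,0,0],
  [0,0,0,0,0,-2,2,0,2,-2,0,2,0,2,-2,2,-2,-2,-2,-2,-2,-2,-2,2],
  [0,0,0,0,0,-2,-2,0,-2,-2,0,2,0,-2,2,2,2,-2,-2,-2,2,-2,2,-2],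
  [0,0,0,0,0,-2,2,0,2,2,0,-2,0,-2,2,-2,-2,-2,-2,2,2,-2,-2,-2],
  [0,0,0,0,0,-2,2,0,2,-2,0,-2,0,-2,-2,-2,2,2,-2,-2,-2,2,2,-2]]

/-- a power -/
def mix1 : List (List ℤ) := [
  [2,-2,-2,-2,-2,0,-2,-2,0,0,-2,-2,-2,-2,-2,0,-2,-2,2,-2,0,0,0,0],
  [2,-2,-2,2,2,0,-2,2,0,0,-2,2,2,2,2,0,-2,-2,2,2,0,0,0,0],
  [2,2,-2,2,2,0,2,-2,0,0,2,2,-2,-2,2,0,-2,2,2,-2,0,0,0,0],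
  [2,2,2,-2,2,0,2,-2,0,0,-2,2,2,-2,-2,0,2,-2,2,2,0,0,0,0],
  [2,2,-2,-2,-2,0,2,2,0,0,2,-2,2,2,-2,0,-2,2,2,2,0,0,0,0],
  [-4,0,0,0,0,-2,0,0,-2,-2,0,0,0,0,0,-2,0,0,4,0,-2,-2,-2,-2],
  [0,0,0,0,0,2,0,4,-2,2,0,0,0,-4,0,2,0,0,0,0,2,-2,-2,-2],
  [2,-2,2,2,-2,0,-2,-2,0,0,2,-2,2,-2,2,0,2,2,2,2,0,0,0,0],
  [0,0,0,0,0,2,0,-4,-2,2,0,0,0,4,0,2,0,0,0,0,2,-2,-2,-2],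
  [0,0,-4,0,0,2,0,0,-2,-2,0,0,0,0,0,2,4,0,0,0,-2,2,-2,2],
  [2,2,2,2,-2,0,2,2,0,0,-2,-2,-2,2,2,0,2,-2,2,-2,0,0,0,0],
  [0,0,0,0,0,2,0,0,2,2,4,0,0,0,0,-2,0,-4,0,0,-2,-2,-2,2],
  [2,-2,2,-2,2,0,-2,2,0,0,2,2,-2,2,-2,0,2,2,2,-2,0,0,0,0],
  [0,0,0,4,0,2,0,0,-2,2,0,0,0,0,-4,-2,0,0,0,0,-2,2,2,-2],
  [0,0,0,0,0,2,0,0,2,-2,0,0,4,0,0,2,0,0,0,-4,-2,-2,2,-2],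
  [0,0,0,0,0,2,0,0,2,2,-4,0,0,0,0,-2,0,4,0,0,-2,-2,-2,2],
  [0,0,0,0,4,2,0,0,2,-2,0,-4,0,0,0,-2,0,0,0,0,2,2,-2,-2],
  [0,4,0,0,0,2,-4,0,-2,-2,0,0,0,0,0,-2,0,0,0,0,2,-2,2,2],
  [4,0,0,0,0,-2,0,0,-2,-2,0,0,0,0,0,-2,0,0,-4,0,-2,-2,-2,-2],
  [0,0,4,0,0,2,0,0,-2,-2,0,0,0,0,0,2,-4,0,0,0,-2,2,-2,2],
  [0,0,0,0,0,2,0,0,2,-2,0,0,-4,0,0,2,0,0,0,4,-2,-2,2,-2],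
  [0,-4,0,0,0,2,4,0,-2,-2,0,0,0,0,0,-2,0,0,0,0,2,-2,2,2],
  [0,0,0,0,-4,2,0,0,2,-2,0,4,0,0,0,-2,0,0,0,0,2,2,-2,-2],
  [0,0,0,-4,0,2,0,0,-2,2,0,0,0,0,4,-2,0,0,0,0,-2,2,2,-2]]

/-- a power -/
def mp1_1 : List (List ℤ) := [
  [2,-2,-2,-2,-2,0,-2,-2,0,0,-2,-2,-2,-2,-2,0,-2,-2,2,-2,0,0,0,0],
  [2,-2,-2,2,2,0,-2,2,0,0,-2,2,2,2,2,0,-2,-2,2,2,0,0,0,0],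
  [2,2,-2,2,2,0,2,-2,0,0,2,2,-2,-2,2,0,-2,2,2,-2,0,0,0,0],
  [2,2,2,-2,2,0,2,-2,0,0,-2,2,2,-2,-2,0,2,-2,2,2,0,0,0,0],
  [2,2,-2,-2,-2,0,2,2,0,0,2,-2,2,2,-2,0,-2,2,2,2,0,0,0,0],
  [-4,0,0,0,0,-2,0,0,-2,-2,0,0,0,0,0,-2,0,0,4,0,-2,-2,-2,-2],
  [0,0,0,0,0,2,0,4,-2,2,0,0,0,-4,0,2,0,0,0,0,2,-2,-2,-2],
  [2,-2,2,2,-2,0,-2,-2,0,0,2,-2,2,-2,2,0,2,2,2,2,0,0,0,0],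
  [0,0,0,0,0,2,0,-4,-2,2,0,0,0,4,0,2,0,0,0,0,2,-2,-2,-2],
  [0,0,-4,0,0,2,0,0,-2,-2,0,0,0,0,0,2,4,0,0,0,-2,2,-2,2],
  [2,2,2,2,-2,0,2,2,0,0,-2,-2,-2,2,2,0,2,-2,2,-2,0,0,0,0],
  [0,0,0,0,0,2,0,0,2,2,4,0,0,0,0,-2,0,-4,0,0,-2,-2,-2,2],
  [2,-2,2,-2,2,0,-2,2,0,0,2,2,-2,2,-2,0,2,2,2,-2,0,0,0,0],
  [0,0,0,4,0,2,0,0,-2,2,0,0,0,0,-4,-2,0,0,0,0,-2,2,2,-2],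
  [0,0,0,0,0,2,0,0,2,-2,0,0,4,0,0,2,0,0,0,-4,-2,-2,2,-2],
  [0,0,0,0,0,2,0,0,2,2,-4,0,0,0,0,-2,0,4,0,0,-2,-2,-2,2],
  [0,0,0,0,4,2,0,0,2,-2,0,-4,0,0,0,-2,0,0,0,0,2,2,-2,-2],
  [0,4,0,0,0,2,-4,0,-2,-2,0,0,0,0,0,-2,0,0,0,0,2,-2,2,2],
  [4,0,0,0,0,-2,0,0,-2,-2,0,0,0,0,0,-2,0,0,-4,0,-2,-2,-2,-2],
  [0,0,4,0,0,2,0,0,-2,-2,0,0,0,0,0,2,-4,0,0,0,-2,2,-2,2],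
  [0,0,0,0,0,2,0,0,2,-2,0,0,-4,0,0,2,0,0,0,4,-2,-2,2,-2],
  [0,-4,0,0,0,2,4,0,-2,-2,0,0,0,0,0,-2,0,0,0,0,2,-2,2,2],
  [0,0,0,0,-4,2,0,0,2,-2,0,4,0,0,0,-2,0,0,0,0,2,2,-2,-2],
  [0,0,0,-4,0,2,0,0,-2,2,0,0,0,0,4,-2,0,0,0,0,-2,2,2,-2]]

/-- a power -/
def mp1_2 : List (List ℤ) := [
  [-2,-2,-2,-2,-2,-4,0,-2,0,0,-2,0,-2,0,0,0,0,0,-4,0,0,0,0,0],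
  [2,-2,2,-2,-2,0,0,-2,0,0,2,0,2,0,-4,0,0,0,0,0,-4,0,0,0],
  [2,2,-2,-2,-2,0,0,2,0,0,-2,0,2,0,0,0,0,-4,0,0,0,-4,0,0],
  [2,-2,-2,-2,2,0,0,2,0,0,2,0,-2,0,0,0,-4,0,0,0,0,0,-4,0],
  [2,-2,2,2,-2,0,-4,2,-4,0,-2,0,-2,0,0,0,0,0,0,0,0,0,0,0],
  [2,2,2,2,2,-4,0,2,0,0,2,0,2,0,0,0,0,0,-4,0,0,0,0,0],
  [0,0,0,0,0,-2,-2,0,2,-2,0,-2,0,-2,2,2,2,2,2,2,-2,-2,-2,2],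
  [2,2,2,-2,2,0,0,-2,0,-4,-2,0,-2,0,0,0,0,0,0,-4,0,0,0,0],
  [-2,2,-2,2,2,0,0,2,0,0,-2,0,-2,0,-4,0,0,0,0,0,-4,0,0,0],
  [-2,-2,2,-2,2,0,0,2,0,0,-2,-4,2,0,0,-4,0,0,0,0,0,0,0,0],
  [2,-2,-2,2,2,0,0,-2,0,0,-2,0,2,-4,0,0,0,0,0,0,0,0,0,-4],
  [0,0,0,0,0,-2,2,0,-2,2,0,-2,0,2,2,2,2,-2,2,-2,-2,2,-2,-2],
  [2,2,-2,2,-2,0,0,-2,0,0,2,-4,-2,0,0,-4,0,0,0,0,0,0,0,0],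
  [0,0,0,0,0,-2,2,0,-2,-2,0,2,0,-2,-2,-2,2,-2,2,2,2,2,-2,2],
  [0,0,0,0,0,-2,-2,0,2,2,0,2,0,2,-2,-2,2,2,2,-2,2,-2,-2,-2],
  [-2,2,-2,-2,2,0,-4,-2,-4,0,2,0,2,0,0,0,0,0,0,0,0,0,0,0],
  [0,0,0,0,0,-2,2,0,-2,-2,0,-2,0,2,-2,2,-2,2,2,2,2,-2,2,-2],
  [0,0,0,0,0,-2,-2,0,2,-2,0,2,0,2,2,-2,-2,-2,2,2,-2,2,2,-2],
  [0,0,0,0,0,-2,-2,0,2,2,0,-2,0,-2,-2,2,-2,-2,2,-2,2,2,2,2],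
  [0,0,0,0,0,-2,2,0,-2,2,0,2,0,-2,2,-2,-2,2,2,-2,-2,-2,2,2],
  [-2,2,2,2,-2,0,0,-2,0,0,-2,0,2,0,0,0,-4,0,0,0,0,0,-4,0],
  [-2,2,2,-2,-2,0,0,2,0,0,2,0,-2,-4,0,0,0,0,0,0,0,0,0,-4],
  [-2,-2,2,2,2,0,0,-2,0,0,2,0,-2,0,0,0,0,-4,0,0,0,-4,0,0],
  [-2,-2,-2,2,-2,0,0,2,0,-4,2,0,2,0,0,0,0,0,0,-4,0,0,0,0]]

/-- a power -/
def mp1_3 : List (List ℤ) := [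
  [-4,0,0,0,0,2,0,0,2,2,0,0,0,0,0,2,0,0,-4,0,2,2,2,2],
  [0,0,0,0,0,-2,0,0,-2,2,0,0,-4,0,0,-2,0,0,0,-4,2,2,-2,2],
  [0,-4,0,0,0,-2,-4,0,2,2,0,0,0,0,0,2,0,0,0,0,-2,2,-2,-2],
  [0,0,0,0,-4,-2,0,0,-2,2,0,-4,0,0,0,2,0,0,0,0,-2,-2,2,2],
  [0,0,0,0,0,-2,0,-4,2,-2,0,0,0,-4,0,-2,0,0,0,0,-2,2,2,2],
  [4,0,0,0,0,2,0,0,2,2,0,0,0,0,0,2,0,0,4,0,2,2,2,2],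
  [2,2,2,-2,2,0,-2,-2,0,0,-2,-2,2,2,2,0,-2,2,-2,-2,0,0,0,0],
  [0,0,-4,0,0,-2,0,0,2,2,0,0,0,0,0,-2,-4,0,0,0,2,-2,2,-2],
  [0,0,0,0,0,-2,0,0,-2,2,0,0,4,0,0,-2,0,0,0,4,2,2,-2,2],
  [0,0,0,0,0,-2,0,0,-2,-2,4,0,0,0,0,2,0,4,0,0,2,2,2,-2],
  [0,0,0,-4,0,-2,0,0,2,-2,0,0,0,0,-4,2,0,0,0,0,2,-2,-2,2],
  [2,-2,-2,2,2,0,2,2,0,0,-2,-2,2,-2,-2,0,2,2,-2,-2,0,0,0,0],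
  [0,0,0,0,0,-2,0,0,-2,-2,-4,0,0,0,0,2,0,-4,0,0,2,2,2,-2],
  [2,-2,2,-2,2,0,2,2,0,0,2,-2,-2,-2,2,0,-2,-2,-2,2,0,0,0,0],
  [2,2,-2,2,2,0,-2,-2,0,0,2,-2,-2,2,-2,0,2,-2,-2,2,0,0,0,0],
  [0,0,0,0,0,-2,0,4,2,-2,0,0,0,4,0,-2,0,0,0,0,-2,2,2,2],
  [2,2,2,2,-2,0,-2,2,0,0,-2,2,-2,-2,-2,0,-2,2,-2,2,0,0,0,0],
  [2,-2,2,2,-2,0,2,-2,0,0,2,2,2,2,-2,0,-2,-2,-2,-2,0,0,0,0],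
  [2,-2,-2,-2,-2,0,2,-2,0,0,-2,2,-2,2,2,0,2,2,-2,2,0,0,0,0],
  [2,2,-2,-2,-2,0,-2,2,0,0,2,2,2,-2,2,0,2,-2,-2,-2,0,0,0,0],
  [0,0,0,0,4,-2,0,0,-2,2,0,4,0,0,0,2,0,0,0,0,-2,-2,2,2],
  [0,0,0,4,0,-2,0,0,2,-2,0,0,0,0,4,2,0,0,0,0,2,-2,-2,2],
  [0,4,0,0,0,-2,4,0,2,2,0,0,0,0,0,2,0,0,0,0,-2,2,-2,-2],
  [0,0,4,0,0,-2,0,0,2,2,0,0,0,0,0,-2,4,0,0,0,2,-2,2,-2]]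

/-- a power -/
def mp1_4 : List (List ℤ) := [
  [-4,0,0,0,0,4,2,0,0,0,0,2,0,2,2,0,2,2,2,2,0,0,0,0],
  [0,0,-4,0,0,0,2,0,0,0,0,-2,0,-2,2,0,2,-2,-2,2,0,0,4,0],
  [0,0,0,0,0,0,2,-4,0,0,0,-2,0,2,-2,0,2,2,-2,-2,0,0,0,4],
  [0,0,0,0,0,0,-2,0,0,0,-4,2,0,-2,2,0,2,2,-2,-2,0,4,0,0],
  [0,0,0,-4,0,0,2,0,0,0,0,2,0,2,2,0,-2,-2,-2,-2,4,0,0,0],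
  [2,-2,-2,-2,-2,2,0,-2,-2,-2,-2,0,-2,0,0,-2,0,0,0,0,-2,-2,-2,-2],
  [0,0,-4,0,0,0,-2,0,0,0,0,2,0,2,-2,0,-2,2,2,-2,0,0,4,0],
  [0,0,0,0,-4,0,-2,0,0,0,0,2,0,2,-2,4,2,-2,-2,2,0,0,0,0],
  [2,-2,2,-2,2,2,0,2,-2,-2,2,0,-2,0,0,2,0,0,0,0,-2,2,2,2],
  [2,2,2,2,-2,2,0,2,2,-2,-2,0,-2,0,0,-2,0,0,0,0,2,-2,2,2],
  [0,0,0,0,0,0,-2,0,0,4,0,-2,-4,2,2,0,-2,2,-2,2,0,0,0,0],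
  [0,0,0,-4,0,0,-2,0,0,0,0,-2,0,-2,-2,0,2,2,2,2,4,0,0,0],
  [0,-4,0,0,0,0,2,0,4,0,0,2,0,-2,-2,0,-2,2,-2,2,0,0,0,0],
  [0,0,0,0,-4,0,2,0,0,0,0,-2,0,-2,2,4,-2,2,2,-2,0,0,0,0],
  [0,0,0,0,0,0,2,0,0,0,-4,-2,0,2,-2,0,-2,-2,2,2,0,4,0,0],
  [2,-2,2,2,-2,2,0,-2,-2,2,2,0,2,0,0,-2,0,0,0,0,2,2,2,-2],
  [0,0,0,0,0,0,-2,-4,0,0,0,2,0,-2,2,0,-2,-2,2,2,0,0,0,4],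
  [0,0,0,0,0,0,2,0,0,4,0,2,-4,-2,-2,0,2,-2,2,-2,0,0,0,0],
  [-4,0,0,0,0,4,-2,0,0,0,0,-2,0,-2,-2,0,-2,-2,-2,-2,0,0,0,0],
  [0,-4,0,0,0,0,-2,0,4,0,0,-2,0,2,2,0,2,-2,2,-2,0,0,0,0],
  [2,2,-2,-2,-2,2,0,2,2,2,2,0,2,0,0,-2,0,0,0,0,-2,2,-2,2],
  [2,2,2,-2,2,2,0,-2,2,2,-2,0,2,0,0,2,0,0,0,0,-2,-2,2,-2],
  [2,-2,-2,2,2,2,0,2,-2,2,-2,0,2,0,0,2,0,0,0,0,2,-2,-2,2],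
  [2,2,-2,2,2,2,0,-2,2,-2,2,0,-2,0,0,2,0,0,0,0,2,2,-2,-2]]

/-- a power -/
def mp1_5 : List (List ℤ) := [
  [-2,2,2,2,2,2,0,2,-2,-2,2,0,2,0,0,-2,0,0,0,0,-2,-2,-2,-2],
  [-2,-2,2,-2,-2,2,0,2,2,-2,-2,0,2,0,0,2,0,0,0,0,2,2,-2,-2],
  [-2,2,-2,-2,2,2,0,2,-2,2,-2,0,-2,0,0,-2,0,0,0,0,2,2,2,-2],
  [-2,-2,-2,-2,2,2,0,-2,2,-2,2,0,2,0,0,-2,0,0,0,0,2,-2,2,2],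
  [-2,-2,-2,2,-2,2,0,2,2,2,2,0,-2,0,0,2,0,0,0,0,-2,-2,2,-2],
  [-4,0,0,0,0,-4,-2,0,0,0,0,-2,0,-2,-2,0,-2,-2,-2,-2,0,0,0,0],
  [0,0,0,0,-4,0,-2,0,0,0,0,2,0,2,-2,-4,2,-2,-2,2,0,0,0,0],
  [-2,-2,2,2,2,2,0,-2,2,2,-2,0,-2,0,0,-2,0,0,0,0,-2,2,-2,2],
  [0,0,0,0,-4,0,2,0,0,0,0,-2,0,-2,2,-4,-2,2,2,-2,0,0,0,0],
  [0,0,0,0,0,0,-2,-4,0,0,0,2,0,-2,2,0,-2,-2,2,2,0,0,0,-4],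
  [-2,2,-2,2,-2,2,0,-2,-2,-2,-2,0,2,0,0,2,0,0,0,0,-2,2,2,2],
  [0,0,0,0,0,0,-2,0,0,-4,0,-2,-4,2,2,0,-2,2,-2,2,0,0,0,0],
  [-2,2,2,-2,-2,2,0,-2,-2,2,2,0,-2,0,0,2,0,0,0,0,2,-2,-2,2],
  [0,0,0,0,0,0,-2,0,0,0,-4,2,0,-2,2,0,2,2,-2,-2,0,-4,0,0],
  [0,-4,0,0,0,0,2,0,-4,0,0,2,0,-2,-2,0,-2,2,-2,2,0,0,0,0],
  [0,0,0,0,0,0,2,0,0,-4,0,2,-4,-2,-2,0,2,-2,2,-2,0,0,0,0],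
  [0,0,0,-4,0,0,2,0,0,0,0,2,0,2,2,0,-2,-2,-2,-2,-4,0,0,0],
  [0,0,-4,0,0,0,2,0,0,0,0,-2,0,-2,2,0,2,-2,-2,2,0,0,-4,0],
  [-4,0,0,0,0,-4,2,0,0,0,0,2,0,2,2,0,2,2,2,2,0,0,0,0],
  [0,0,0,0,0,0,2,-4,0,0,0,-2,0,2,-2,0,2,2,-2,-2,0,0,0,-4],
  [0,-4,0,0,0,0,-2,0,-4,0,0,-2,0,2,2,0,2,-2,2,-2,0,0,0,0],
  [0,0,-4,0,0,0,-2,0,0,0,0,2,0,2,-2,0,-2,2,2,-2,0,0,-4,0],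
  [0,0,0,-4,0,0,-2,0,0,0,0,-2,0,-2,-2,0,2,2,2,2,-4,0,0,0],
  [0,0,0,0,0,0,2,0,0,0,-4,-2,0,2,-2,0,-2,-2,2,2,0,-4,0,0]]

/-- a power -/
def mp1_6 : List (List ℤ) := [
  [2,2,2,2,2,-4,0,2,0,0,2,0,2,0,0,0,0,0,4,0,0,0,0,0],
  [-2,-2,2,2,2,0,0,-2,0,0,2,0,-2,0,0,0,0,4,0,0,0,-4,0,0],
  [-2,-2,-2,2,-2,0,0,2,0,-4,2,0,2,0,0,0,0,0,0,4,0,0,0,0],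
  [-2,2,2,-2,-2,0,0,2,0,0,2,0,-2,4,0,0,0,0,0,0,0,0,0,-4],
  [-2,2,2,2,-2,0,0,-2,0,0,-2,0,2,0,0,0,4,0,0,0,0,0,-4,0],
  [0,0,0,0,0,-2,2,0,2,2,0,2,0,2,2,2,2,2,-2,2,2,2,2,2],
  [-2,-2,2,2,2,0,0,-2,0,0,2,0,-2,0,0,0,0,-4,0,0,0,4,0,0],
  [-2,2,-2,-2,2,0,4,-2,-4,0,2,0,2,0,0,0,0,0,0,0,0,0,0,0],
  [0,0,0,0,0,-2,-2,0,-2,-2,0,2,0,-2,2,2,2,-2,-2,-2,2,-2,2,-2],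
  [0,0,0,0,0,-2,2,0,2,-2,0,2,0,2,-2,2,-2,-2,-2,-2,-2,-2,-2,2],
  [-2,-2,2,-2,2,0,0,2,0,0,-2,4,2,0,0,-4,0,0,0,0,0,0,0,0],
  [-2,2,2,2,-2,0,0,-2,0,0,-2,0,2,0,0,0,-4,0,0,0,0,0,4,0],
  [-2,2,-2,2,2,0,0,2,0,0,-2,0,-2,0,4,0,0,0,0,0,-4,0,0,0],
  [-2,2,-2,-2,2,0,-4,-2,4,0,2,0,2,0,0,0,0,0,0,0,0,0,0,0],
  [-2,2,2,-2,-2,0,0,2,0,0,2,0,-2,-4,0,0,0,0,0,0,0,0,0,4],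
  [0,0,0,0,0,-2,2,0,2,2,0,-2,0,-2,2,-2,-2,-2,-2,2,2,-2,-2,-2],
  [-2,-2,-2,2,-2,0,0,2,0,4,2,0,2,0,0,0,0,0,0,-4,0,0,0,0],
  [-2,-2,2,-2,2,0,0,2,0,0,-2,-4,2,0,0,4,0,0,0,0,0,0,0,0],
  [2,2,2,2,2,4,0,2,0,0,2,0,2,0,0,0,0,0,-4,0,0,0,0,0],
  [-2,2,-2,2,2,0,0,2,0,0,-2,0,-2,0,-4,0,0,0,0,0,4,0,0,0],
  [0,0,0,0,0,-2,2,0,2,-2,0,-2,0,-2,-2,-2,2,2,-2,-2,-2,2,2,-2],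
  [0,0,0,0,0,-2,-2,0,-2,2,0,-2,0,2,-2,-2,2,-2,-2,2,-2,-2,2,2],
  [0,0,0,0,0,-2,-2,0,-2,-2,0,-2,0,2,2,-2,-2,2,-2,-2,2,2,-2,2],
  [0,0,0,0,0,-2,-2,0,-2,2,0,2,0,-2,-2,2,-2,2,-2,2,-2,2,-2,-2]]

/-- a power -/
def mix2 : List (List ℤ) := [
  [-2,-2,-2,-2,-2,-4,0,-2,0,0,-2,0,-2,0,0,0,0,0,-4,0,0,0,0,0],
  [2,-2,-2,2,2,0,0,-2,0,0,-2,0,2,-4,0,0,0,0,0,0,0,0,0,-4],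
  [2,2,-2,2,-2,0,0,-2,0,0,2,-4,-2,0,0,-4,0,0,0,0,0,0,0,0],
  [2,2,2,-2,2,0,0,-2,0,-4,-2,0,-2,0,0,0,0,0,0,-4,0,0,0,0],
  [2,2,-2,-2,-2,0,0,2,0,0,-2,0,2,0,0,0,0,-4,0,0,0,-4,0,0],
  [2,2,2,2,2,-4,0,2,0,0,2,0,2,0,0,0,0,0,-4,0,0,0,0,0],
  [0,0,0,0,0,-2,-2,0,2,-2,0,2,0,2,2,-2,-2,-2,2,2,-2,2,2,-2],
  [2,-2,2,-2,-2,0,0,-2,0,0,2,0,2,0,-4,0,0,0,0,0,-4,0,0,0],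
  [-2,2,2,-2,-2,0,0,2,0,0,2,0,-2,-4,0,0,0,0,0,0,0,0,0,-4],
  [-2,2,2,2,-2,0,0,-2,0,0,-2,0,2,0,0,0,-4,0,0,0,0,0,-4,0],
  [2,-2,2,2,-2,0,-4,2,-4,0,-2,0,-2,0,0,0,0,0,0,0,0,0,0,0],
  [0,0,0,0,0,-2,2,0,-2,-2,0,-2,0,2,-2,2,-2,2,2,2,2,-2,2,-2],
  [2,-2,-2,-2,2,0,0,2,0,0,2,0,-2,0,0,0,-4,0,0,0,0,0,-4,0],
  [0,0,0,0,0,-2,-2,0,2,-2,0,-2,0,-2,2,2,2,2,2,2,-2,-2,-2,2],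
  [0,0,0,0,0,-2,2,0,-2,-2,0,2,0,-2,-2,-2,2,-2,2,2,2,2,-2,2],
  [-2,-2,2,2,2,0,0,-2,0,0,2,0,-2,0,0,0,0,-4,0,0,0,-4,0,0],
  [0,0,0,0,0,-2,2,0,-2,2,0,2,0,-2,2,-2,-2,2,2,-2,-2,-2,2,2],
  [0,0,0,0,0,-2,2,0,-2,2,0,-2,0,2,2,2,2,-2,2,-2,-2,2,-2,-2],
  [0,0,0,0,0,-2,-2,0,2,2,0,-2,0,-2,-2,2,-2,-2,2,-2,2,2,2,2],
  [0,0,0,0,0,-2,-2,0,2,2,0,2,0,2,-2,-2,2,2,2,-2,2,-2,-2,-2],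
  [-2,-2,-2,2,-2,0,0,2,0,-4,2,0,2,0,0,0,0,0,0,-4,0,0,0,0],
  [-2,2,-2,-2,2,0,-4,-2,-4,0,2,0,2,0,0,0,0,0,0,0,0,0,0,0],
  [-2,-2,2,-2,2,0,0,2,0,0,-2,-4,2,0,0,-4,0,0,0,0,0,0,0,0],
  [-2,2,-2,2,2,0,0,2,0,0,-2,0,-2,0,-4,0,0,0,0,0,-4,0,0,0]]

/-- a power -/
def mp2_1 : List (List ℤ) := [
  [-2,-2,-2,-2,-2,-4,0,-2,0,0,-2,0,-2,0,0,0,0,0,-4,0,0,0,0,0],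
  [2,-2,-2,2,2,0,0,-2,0,0,-2,0,2,-4,0,0,0,0,0,0,0,0,0,-4],
  [2,2,-2,2,-2,0,0,-2,0,0,2,-4,-2,0,0,-4,0,0,0,0,0,0,0,0],
  [2,2,2,-2,2,0,0,-2,0,-4,-2,0,-2,0,0,0,0,0,0,-4,0,0,0,0],
  [2,2,-2,-2,-2,0,0,2,0,0,-2,0,2,0,0,0,0,-4,0,0,0,-4,0,0],
  [2,2,2,2,2,-4,0,2,0,0,2,0,2,0,0,0,0,0,-4,0,0,0,0,0],
  [0,0,0,0,0,-2,-2,0,2,-2,0,2,0,2,2,-2,-2,-2,2,2,-2,2,2,-2],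
  [2,-2,2,-2,-2,0,0,-2,0,0,2,0,2,0,-4,0,0,0,0,0,-4,0,0,0],
  [-2,2,2,-2,-2,0,0,2,0,0,2,0,-2,-4,0,0,0,0,0,0,0,0,0,-4],
  [-2,2,2,2,-2,0,0,-2,0,0,-2,0,2,0,0,0,-4,0,0,0,0,0,-4,0],
  [2,-2,2,2,-2,0,-4,2,-4,0,-2,0,-2,0,0,0,0,0,0,0,0,0,0,0],
  [0,0,0,0,0,-2,2,0,-2,-2,0,-2,0,2,-2,2,-2,2,2,2,2,-2,2,-2],
  [2,-2,-2,-2,2,0,0,2,0,0,2,0,-2,0,0,0,-4,0,0,0,0,0,-4,0],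
  [0,0,0,0,0,-2,-2,0,2,-2,0,-2,0,-2,2,2,2,2,2,2,-2,-2,-2,2],
  [0,0,0,0,0,-2,2,0,-2,-2,0,2,0,-2,-2,-2,2,-2,2,2,2,2,-2,2],
  [-2,-2,2,2,2,0,0,-2,0,0,2,0,-2,0,0,0,0,-4,0,0,0,-4,0,0],
  [0,0,0,0,0,-2,2,0,-2,2,0,2,0,-2,2,-2,-2,2,2,-2,-2,-2,2,2],
  [0,0,0,0,0,-2,2,0,-2,2,0,-2,0,2,2,2,2,-2,2,-2,-2,2,-2,-2],
  [0,0,0,0,0,-2,-2,0,2,2,0,-2,0,-2,-2,2,-2,-2,2,-2,2,2,2,2],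
  [0,0,0,0,0,-2,-2,0,2,2,0,2,0,2,-2,-2,2,2,2,-2,2,-2,-2,-2],
  [-2,-2,-2,2,-2,0,0,2,0,-4,2,0,2,0,0,0,0,0,0,-4,0,0,0,0],
  [-2,2,-2,-2,2,0,-4,-2,-4,0,2,0,2,0,0,0,0,0,0,0,0,0,0,0],
  [-2,-2,2,-2,2,0,0,2,0,0,-2,-4,2,0,0,-4,0,0,0,0,0,0,0,0],
  [-2,2,-2,2,2,0,0,2,0,0,-2,0,-2,0,-4,0,0,0,0,0,-4,0,0,0]]

/-- a power -/
def mp2_2 : List (List ℤ) := [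
  [-4,0,0,0,0,4,2,0,0,0,0,2,0,2,2,0,2,2,2,2,0,0,0,0],
  [0,0,0,-4,0,0,2,0,0,0,0,2,0,2,2,0,-2,-2,-2,-2,4,0,0,0],
  [0,0,0,0,0,0,-2,0,0,0,-4,2,0,-2,2,0,2,2,-2,-2,0,4,0,0],
  [0,0,-4,0,0,0,2,0,0,0,0,-2,0,-2,2,0,2,-2,-2,2,0,0,4,0],
  [0,-4,0,0,0,0,2,0,4,0,0,2,0,-2,-2,0,-2,2,-2,2,0,0,0,0],
  [2,-2,-2,-2,-2,2,0,-2,-2,-2,-2,0,-2,0,0,-2,0,0,0,0,-2,-2,-2,-2],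
  [0,0,0,-4,0,0,-2,0,0,0,0,-2,0,-2,-2,0,2,2,2,2,4,0,0,0],
  [0,0,0,0,0,0,-2,0,0,4,0,-2,-4,2,2,0,-2,2,-2,2,0,0,0,0],
  [2,-2,2,2,-2,2,0,-2,-2,2,2,0,2,0,0,-2,0,0,0,0,2,2,2,-2],
  [2,2,-2,2,2,2,0,-2,2,-2,2,0,-2,0,0,2,0,0,0,0,2,2,-2,-2],
  [0,0,0,0,0,0,2,-4,0,0,0,-2,0,2,-2,0,2,2,-2,-2,0,0,0,4],
  [0,-4,0,0,0,0,-2,0,4,0,0,-2,0,2,2,0,2,-2,2,-2,0,0,0,0],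
  [0,0,0,0,-4,0,-2,0,0,0,0,2,0,2,-2,4,2,-2,-2,2,0,0,0,0],
  [0,0,0,0,0,0,2,0,0,4,0,2,-4,-2,-2,0,2,-2,2,-2,0,0,0,0],
  [0,0,-4,0,0,0,-2,0,0,0,0,2,0,2,-2,0,-2,2,2,-2,0,0,4,0],
  [2,2,2,2,-2,2,0,2,2,-2,-2,0,-2,0,0,-2,0,0,0,0,2,-2,2,2],
  [0,0,0,0,0,0,2,0,0,0,-4,-2,0,2,-2,0,-2,-2,2,2,0,4,0,0],
  [0,0,0,0,0,0,-2,-4,0,0,0,2,0,-2,2,0,-2,-2,2,2,0,0,0,4],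
  [-4,0,0,0,0,4,-2,0,0,0,0,-2,0,-2,-2,0,-2,-2,-2,-2,0,0,0,0],
  [0,0,0,0,-4,0,2,0,0,0,0,-2,0,-2,2,4,-2,2,2,-2,0,0,0,0],
  [2,-2,2,-2,2,2,0,2,-2,-2,2,0,-2,0,0,2,0,0,0,0,-2,2,2,2],
  [2,-2,-2,2,2,2,0,2,-2,2,-2,0,2,0,0,2,0,0,0,0,2,-2,-2,2],
  [2,2,-2,-2,-2,2,0,2,2,2,2,0,2,0,0,-2,0,0,0,0,-2,2,-2,2],
  [2,2,2,-2,2,2,0,-2,2,2,-2,0,2,0,0,2,0,0,0,0,-2,-2,2,-2]]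

/-- a power -/
def mp2_3 : List (List ℤ) := [
  [2,2,2,2,2,-4,0,2,0,0,2,0,2,0,0,0,0,0,4,0,0,0,0,0],
  [-2,-2,-2,2,-2,0,0,2,0,-4,2,0,2,0,0,0,0,0,0,4,0,0,0,0],
  [-2,2,-2,-2,2,0,4,-2,-4,0,2,0,2,0,0,0,0,0,0,0,0,0,0,0],
  [-2,-2,2,-2,2,0,0,2,0,0,-2,4,2,0,0,-4,0,0,0,0,0,0,0,0],
  [-2,2,2,-2,-2,0,0,2,0,0,2,0,-2,4,0,0,0,0,0,0,0,0,0,-4],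
  [0,0,0,0,0,-2,2,0,2,2,0,2,0,2,2,2,2,2,-2,2,2,2,2,2],
  [-2,-2,-2,2,-2,0,0,2,0,4,2,0,2,0,0,0,0,0,0,-4,0,0,0,0],
  [-2,2,2,2,-2,0,0,-2,0,0,-2,0,2,0,0,0,4,0,0,0,0,0,-4,0],
  [0,0,0,0,0,-2,-2,0,-2,-2,0,-2,0,2,2,-2,-2,2,-2,-2,2,2,-2,2],
  [0,0,0,0,0,-2,-2,0,-2,-2,0,2,0,-2,2,2,2,-2,-2,-2,2,-2,2,-2],
  [-2,2,-2,2,2,0,0,2,0,0,-2,0,-2,0,4,0,0,0,0,0,-4,0,0,0],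
  [-2,2,2,-2,-2,0,0,2,0,0,2,0,-2,-4,0,0,0,0,0,0,0,0,0,4],
  [-2,-2,2,2,2,0,0,-2,0,0,2,0,-2,0,0,0,0,4,0,0,0,-4,0,0],
  [-2,2,2,2,-2,0,0,-2,0,0,-2,0,2,0,0,0,-4,0,0,0,0,0,4,0],
  [-2,-2,2,-2,2,0,0,2,0,0,-2,-4,2,0,0,4,0,0,0,0,0,0,0,0],
  [0,0,0,0,0,-2,2,0,2,-2,0,-2,0,-2,-2,-2,2,2,-2,-2,-2,2,2,-2],
  [-2,2,-2,-2,2,0,-4,-2,4,0,2,0,2,0,0,0,0,0,0,0,0,0,0,0],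
  [-2,2,-2,2,2,0,0,2,0,0,-2,0,-2,0,-4,0,0,0,0,0,4,0,0,0],
  [2,2,2,2,2,4,0,2,0,0,2,0,2,0,0,0,0,0,-4,0,0,0,0,0],
  [-2,-2,2,2,2,0,0,-2,0,0,2,0,-2,0,0,0,0,-4,0,0,0,4,0,0],
  [0,0,0,0,0,-2,-2,0,-2,2,0,-2,0,2,-2,-2,2,-2,-2,2,-2,-2,2,2],
  [0,0,0,0,0,-2,2,0,2,-2,0,2,0,2,-2,2,-2,-2,-2,-2,-2,-2,-2,2],
  [0,0,0,0,0,-2,-2,0,-2,2,0,2,0,-2,-2,2,-2,2,-2,2,-2,2,-2,-2],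
  [0,0,0,0,0,-2,2,0,2,2,0,-2,0,-2,2,-2,-2,-2,-2,2,2,-2,-2,-2]]

/-- a power -/
def mp2_4 : List (List ℤ) := [
  [2,-2,-2,-2,-2,0,-2,-2,0,0,-2,-2,-2,-2,-2,0,-2,-2,2,-2,0,0,0,0],
  [2,-2,2,-2,2,0,-2,2,0,0,2,2,-2,2,-2,0,2,2,2,-2,0,0,0,0],
  [2,-2,-2,2,2,0,-2,2,0,0,-2,2,2,2,2,0,-2,-2,2,2,0,0,0,0],
  [2,2,-2,-2,-2,0,2,2,0,0,2,-2,2,2,-2,0,-2,2,2,2,0,0,0,0],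
  [2,-2,2,2,-2,0,-2,-2,0,0,2,-2,2,-2,2,0,2,2,2,2,0,0,0,0],
  [-4,0,0,0,0,-2,0,0,-2,-2,0,0,0,0,0,-2,0,0,4,0,-2,-2,-2,-2],
  [0,0,4,0,0,2,0,0,-2,-2,0,0,0,0,0,2,-4,0,0,0,-2,2,-2,2],
  [2,2,-2,2,2,0,2,-2,0,0,2,2,-2,-2,2,0,-2,2,2,-2,0,0,0,0],
  [0,0,-4,0,0,2,0,0,-2,-2,0,0,0,0,0,2,4,0,0,0,-2,2,-2,2],
  [0,-4,0,0,0,2,4,0,-2,-2,0,0,0,0,0,-2,0,0,0,0,2,-2,2,2],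
  [2,2,2,-2,2,0,2,-2,0,0,-2,2,2,-2,-2,0,2,-2,2,2,0,0,0,0],
  [0,0,0,4,0,2,0,0,-2,2,0,0,0,0,-4,-2,0,0,0,0,-2,2,2,-2],
  [2,2,2,2,-2,0,2,2,0,0,-2,-2,-2,2,2,0,2,-2,2,-2,0,0,0,0],
  [0,0,0,0,4,2,0,0,2,-2,0,-4,0,0,0,-2,0,0,0,0,2,2,-2,-2],
  [0,0,0,0,0,2,0,0,2,2,4,0,0,0,0,-2,0,-4,0,0,-2,-2,-2,2],
  [0,0,0,-4,0,2,0,0,-2,2,0,0,0,0,4,-2,0,0,0,0,-2,2,2,-2],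
  [0,0,0,0,0,2,0,4,-2,2,0,0,0,-4,0,2,0,0,0,0,2,-2,-2,-2],
  [0,0,0,0,0,2,0,0,2,-2,0,0,4,0,0,2,0,0,0,-4,-2,-2,2,-2],
  [4,0,0,0,0,-2,0,0,-2,-2,0,0,0,0,0,-2,0,0,-4,0,-2,-2,-2,-2],
  [0,4,0,0,0,2,-4,0,-2,-2,0,0,0,0,0,-2,0,0,0,0,2,-2,2,2],
  [0,0,0,0,0,2,0,0,2,2,-4,0,0,0,0,-2,0,4,0,0,-2,-2,-2,2],
  [0,0,0,0,0,2,0,0,2,-2,0,0,-4,0,0,2,0,0,0,4,-2,-2,2,-2],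
  [0,0,0,0,0,2,0,-4,-2,2,0,0,0,4,0,2,0,0,0,0,2,-2,-2,-2],
  [0,0,0,0,-4,2,0,0,2,-2,0,4,0,0,0,-2,0,0,0,0,2,2,-2,-2]]

/-- a power -/
def mp2_5 : List (List ℤ) := [
  [-4,0,0,0,0,2,0,0,2,2,0,0,0,0,0,2,0,0,-4,0,2,2,2,2],
  [0,0,0,0,-4,-2,0,0,-2,2,0,-4,0,0,0,2,0,0,0,0,-2,-2,2,2],
  [0,0,0,-4,0,-2,0,0,2,-2,0,0,0,0,-4,2,0,0,0,0,2,-2,-2,2],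
  [0,-4,0,0,0,-2,-4,0,2,2,0,0,0,0,0,2,0,0,0,0,-2,2,-2,-2],
  [0,0,0,0,0,-2,0,0,-2,2,0,0,-4,0,0,-2,0,0,0,-4,2,2,-2,2],
  [4,0,0,0,0,2,0,0,2,2,0,0,0,0,0,2,0,0,4,0,2,2,2,2],
  [2,2,-2,2,2,0,-2,-2,0,0,2,-2,-2,2,-2,0,2,-2,-2,2,0,0,0,0],
  [0,0,0,0,0,-2,0,0,-2,-2,-4,0,0,0,0,2,0,-4,0,0,2,2,2,-2],
  [0,0,0,0,4,-2,0,0,-2,2,0,4,0,0,0,2,0,0,0,0,-2,-2,2,2],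
  [0,0,0,0,0,-2,0,4,2,-2,0,0,0,4,0,-2,0,0,0,0,-2,2,2,2],
  [0,0,-4,0,0,-2,0,0,2,2,0,0,0,0,0,-2,-4,0,0,0,2,-2,2,-2],
  [2,2,2,-2,2,0,-2,-2,0,0,-2,-2,2,2,2,0,-2,2,-2,-2,0,0,0,0],
  [0,0,0,0,0,-2,0,-4,2,-2,0,0,0,-4,0,-2,0,0,0,0,-2,2,2,2],
  [2,2,-2,-2,-2,0,-2,2,0,0,2,2,2,-2,2,0,2,-2,-2,-2,0,0,0,0],
  [2,2,2,2,-2,0,-2,2,0,0,-2,2,-2,-2,-2,0,-2,2,-2,2,0,0,0,0],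
  [0,0,0,0,0,-2,0,0,-2,2,0,0,4,0,0,-2,0,0,0,4,2,2,-2,2],
  [2,-2,2,2,-2,0,2,-2,0,0,2,2,2,2,-2,0,-2,-2,-2,-2,0,0,0,0],
  [2,-2,2,-2,2,0,2,2,0,0,2,-2,-2,-2,2,0,-2,-2,-2,2,0,0,0,0],
  [2,-2,-2,-2,-2,0,2,-2,0,0,-2,2,-2,2,2,0,2,2,-2,2,0,0,0,0],
  [2,-2,-2,2,2,0,2,2,0,0,-2,-2,2,-2,-2,0,2,2,-2,-2,0,0,0,0],
  [0,4,0,0,0,-2,4,0,2,2,0,0,0,0,0,2,0,0,0,0,-2,2,-2,-2],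
  [0,0,4,0,0,-2,0,0,2,2,0,0,0,0,0,-2,4,0,0,0,2,-2,2,-2],
  [0,0,0,4,0,-2,0,0,2,-2,0,0,0,0,4,2,0,0,0,0,2,-2,-2,2],
  [0,0,0,0,0,-2,0,0,-2,-2,4,0,0,0,0,2,0,4,0,0,2,2,2,-2]]

/-- a power -/
def mp2_6 : List (List ℤ) := [
  [-2,2,2,2,2,2,0,2,-2,-2,2,0,2,0,0,-2,0,0,0,0,-2,-2,-2,-2],
  [-2,-2,2,2,2,2,0,-2,2,2,-2,0,-2,0,0,-2,0,0,0,0,-2,2,-2,2],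
  [-2,-2,-2,2,-2,2,0,2,2,2,2,0,-2,0,0,2,0,0,0,0,-2,-2,2,-2],
  [-2,2,2,-2,-2,2,0,-2,-2,2,2,0,-2,0,0,2,0,0,0,0,2,-2,-2,2],
  [-2,2,-2,2,-2,2,0,-2,-2,-2,-2,0,2,0,0,2,0,0,0,0,-2,2,2,2],
  [-4,0,0,0,0,-4,-2,0,0,0,0,-2,0,-2,-2,0,-2,-2,-2,-2,0,0,0,0],
  [0,0,0,0,0,0,-2,0,0,0,-4,2,0,-2,2,0,2,2,-2,-2,0,-4,0,0],
  [-2,-2,-2,-2,2,2,0,-2,2,-2,2,0,2,0,0,-2,0,0,0,0,2,-2,2,2],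
  [0,0,0,0,0,0,2,0,0,0,-4,-2,0,2,-2,0,-2,-2,2,2,0,-4,0,0],
  [0,0,0,-4,0,0,-2,0,0,0,0,-2,0,-2,-2,0,2,2,2,2,-4,0,0,0],
  [-2,-2,2,-2,-2,2,0,2,2,-2,-2,0,2,0,0,2,0,0,0,0,2,2,-2,-2],
  [0,0,-4,0,0,0,2,0,0,0,0,-2,0,-2,2,0,2,-2,-2,2,0,0,-4,0],
  [-2,2,-2,-2,2,2,0,2,-2,2,-2,0,-2,0,0,-2,0,0,0,0,2,2,2,-2],
  [0,-4,0,0,0,0,2,0,-4,0,0,2,0,-2,-2,0,-2,2,-2,2,0,0,0,0],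
  [0,0,0,0,0,0,2,-4,0,0,0,-2,0,2,-2,0,2,2,-2,-2,0,0,0,-4],
  [0,0,-4,0,0,0,-2,0,0,0,0,2,0,2,-2,0,-2,2,2,-2,0,0,-4,0],
  [0,0,0,0,0,0,-2,0,0,-4,0,-2,-4,2,2,0,-2,2,-2,2,0,0,0,0],
  [0,0,0,0,-4,0,-2,0,0,0,0,2,0,2,-2,-4,2,-2,-2,2,0,0,0,0],
  [-4,0,0,0,0,-4,2,0,0,0,0,2,0,2,2,0,2,2,2,2,0,0,0,0],
  [0,0,0,-4,0,0,2,0,0,0,0,2,0,2,2,0,-2,-2,-2,-2,-4,0,0,0],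
  [0,0,0,0,0,0,-2,-4,0,0,0,2,0,-2,2,0,-2,-2,2,2,0,0,0,-4],
  [0,0,0,0,-4,0,2,0,0,0,0,-2,0,-2,2,-4,-2,2,2,-2,0,0,0,0],
  [0,0,0,0,0,0,2,0,0,-4,0,2,-4,-2,-2,0,2,-2,2,-2,0,0,0,0],
  [0,-4,0,0,0,0,-2,0,-4,0,0,-2,0,2,2,0,2,-2,2,-2,0,0,0,0]]

/-- a power -/
def mix4 : List (List ℤ) := [
  [-4,0,0,0,0,4,2,0,0,0,0,2,0,2,2,0,2,2,2,2,0,0,0,0],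
  [0,0,0,0,0,0,2,-4,0,0,0,-2,0,2,-2,0,2,2,-2,-2,0,0,0,4],
  [0,0,0,0,-4,0,-2,0,0,0,0,2,0,2,-2,4,2,-2,-2,2,0,0,0,0],
  [0,0,0,0,0,0,-2,0,0,4,0,-2,-4,2,2,0,-2,2,-2,2,0,0,0,0],
  [0,0,0,0,0,0,-2,0,0,0,-4,2,0,-2,2,0,2,2,-2,-2,0,4,0,0],
  [2,-2,-2,-2,-2,2,0,-2,-2,-2,-2,0,-2,0,0,-2,0,0,0,0,-2,-2,-2,-2],
  [0,0,0,0,0,0,-2,-4,0,0,0,2,0,-2,2,0,-2,-2,2,2,0,0,0,4],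
  [0,0,0,-4,0,0,2,0,0,0,0,2,0,2,2,0,-2,-2,-2,-2,4,0,0,0],
  [2,-2,-2,2,2,2,0,2,-2,2,-2,0,2,0,0,2,0,0,0,0,2,-2,-2,2],
  [2,-2,2,-2,2,2,0,2,-2,-2,2,0,-2,0,0,2,0,0,0,0,-2,2,2,2],
  [0,-4,0,0,0,0,2,0,4,0,0,2,0,-2,-2,0,-2,2,-2,2,0,0,0,0],
  [0,0,0,0,0,0,2,0,0,0,-4,-2,0,2,-2,0,-2,-2,2,2,0,4,0,0],
  [0,0,-4,0,0,0,2,0,0,0,0,-2,0,-2,2,0,2,-2,-2,2,0,0,4,0],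
  [0,0,0,-4,0,0,-2,0,0,0,0,-2,0,-2,-2,0,2,2,2,2,4,0,0,0],
  [0,0,0,0,0,0,2,0,0,4,0,2,-4,-2,-2,0,2,-2,2,-2,0,0,0,0],
  [2,2,-2,-2,-2,2,0,2,2,2,2,0,2,0,0,-2,0,0,0,0,-2,2,-2,2],
  [0,0,0,0,-4,0,2,0,0,0,0,-2,0,-2,2,4,-2,2,2,-2,0,0,0,0],
  [0,-4,0,0,0,0,-2,0,4,0,0,-2,0,2,2,0,2,-2,2,-2,0,0,0,0],
  [-4,0,0,0,0,4,-2,0,0,0,0,-2,0,-2,-2,0,-2,-2,-2,-2,0,0,0,0],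
  [0,0,-4,0,0,0,-2,0,0,0,0,2,0,2,-2,0,-2,2,2,-2,0,0,4,0],
  [2,2,2,-2,2,2,0,-2,2,2,-2,0,2,0,0,2,0,0,0,0,-2,-2,2,-2],
  [2,2,2,2,-2,2,0,2,2,-2,-2,0,-2,0,0,-2,0,0,0,0,2,-2,2,2],
  [2,2,-2,2,2,2,0,-2,2,-2,2,0,-2,0,0,2,0,0,0,0,2,2,-2,-2],
  [2,-2,2,2,-2,2,0,-2,-2,2,2,0,2,0,0,-2,0,0,0,0,2,2,2,-2]]

/-- a power -/
def mp4_1 : List (List ℤ) := [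
  [-4,0,0,0,0,4,2,0,0,0,0,2,0,2,2,0,2,2,2,2,0,0,0,0],
  [0,0,0,0,0,0,2,-4,0,0,0,-2,0,2,-2,0,2,2,-2,-2,0,0,0,4],
  [0,0,0,0,-4,0,-2,0,0,0,0,2,0,2,-2,4,2,-2,-2,2,0,0,0,0],
  [0,0,0,0,0,0,-2,0,0,4,0,-2,-4,2,2,0,-2,2,-2,2,0,0,0,0],
  [0,0,0,0,0,0,-2,0,0,0,-4,2,0,-2,2,0,2,2,-2,-2,0,4,0,0],
  [2,-2,-2,-2,-2,2,0,-2,-2,-2,-2,0,-2,0,0,-2,0,0,0,0,-2,-2,-2,-2],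
  [0,0,0,0,0,0,-2,-4,0,0,0,2,0,-2,2,0,-2,-2,2,2,0,0,0,4],
  [0,0,0,-4,0,0,2,0,0,0,0,2,0,2,2,0,-2,-2,-2,-2,4,0,0,0],
  [2,-2,-2,2,2,2,0,2,-2,2,-2,0,2,0,0,2,0,0,0,0,2,-2,-2,2],
  [2,-2,2,-2,2,2,0,2,-2,-2,2,0,-2,0,0,2,0,0,0,0,-2,2,2,2],
  [0,-4,0,0,0,0,2,0,4,0,0,2,0,-2,-2,0,-2,2,-2,2,0,0,0,0],
  [0,0,0,0,0,0,2,0,0,0,-4,-2,0,2,-2,0,-2,-2,2,2,0,4,0,0],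
  [0,0,-4,0,0,0,2,0,0,0,0,-2,0,-2,2,0,2,-2,-2,2,0,0,4,0],
  [0,0,0,-4,0,0,-2,0,0,0,0,-2,0,-2,-2,0,2,2,2,2,4,0,0,0],
  [0,0,0,0,0,0,2,0,0,4,0,2,-4,-2,-2,0,2,-2,2,-2,0,0,0,0],
  [2,2,-2,-2,-2,2,0,2,2,2,2,0,2,0,0,-2,0,0,0,0,-2,2,-2,2],
  [0,0,0,0,-4,0,2,0,0,0,0,-2,0,-2,2,4,-2,2,2,-2,0,0,0,0],
  [0,-4,0,0,0,0,-2,0,4,0,0,-2,0,2,2,0,2,-2,2,-2,0,0,0,0],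
  [-4,0,0,0,0,4,-2,0,0,0,0,-2,0,-2,-2,0,-2,-2,-2,-2,0,0,0,0],
  [0,0,-4,0,0,0,-2,0,0,0,0,2,0,2,-2,0,-2,2,2,-2,0,0,4,0],
  [2,2,2,-2,2,2,0,-2,2,2,-2,0,2,0,0,2,0,0,0,0,-2,-2,2,-2],
  [2,2,2,2,-2,2,0,2,2,-2,-2,0,-2,0,0,-2,0,0,0,0,2,-2,2,2],
  [2,2,-2,2,2,2,0,-2,2,-2,2,0,-2,0,0,2,0,0,0,0,2,2,-2,-2],
  [2,-2,2,2,-2,2,0,-2,-2,2,2,0,2,0,0,-2,0,0,0,0,2,2,2,-2]]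

/-- a power -/
def mp4_2 : List (List ℤ) := [
  [2,-2,-2,-2,-2,0,-2,-2,0,0,-2,-2,-2,-2,-2,0,-2,-2,2,-2,0,0,0,0],
  [2,-2,2,2,-2,0,-2,-2,0,0,2,-2,2,-2,2,0,2,2,2,2,0,0,0,0],
  [2,2,-2,-2,-2,0,2,2,0,0,2,-2,2,2,-2,0,-2,2,2,2,0,0,0,0],
  [2,-2,2,-2,2,0,-2,2,0,0,2,2,-2,2,-2,0,2,2,2,-2,0,0,0,0],
  [2,2,2,2,-2,0,2,2,0,0,-2,-2,-2,2,2,0,2,-2,2,-2,0,0,0,0],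
  [-4,0,0,0,0,-2,0,0,-2,-2,0,0,0,0,0,-2,0,0,4,0,-2,-2,-2,-2],
  [0,0,0,4,0,2,0,0,-2,2,0,0,0,0,-4,-2,0,0,0,0,-2,2,2,-2],
  [2,2,2,-2,2,0,2,-2,0,0,-2,2,2,-2,-2,0,2,-2,2,2,0,0,0,0],
  [0,0,0,-4,0,2,0,0,-2,2,0,0,0,0,4,-2,0,0,0,0,-2,2,2,-2],
  [0,0,0,0,-4,2,0,0,2,-2,0,4,0,0,0,-2,0,0,0,0,2,2,-2,-2],
  [2,-2,-2,2,2,0,-2,2,0,0,-2,2,2,2,2,0,-2,-2,2,2,0,0,0,0],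
  [0,4,0,0,0,2,-4,0,-2,-2,0,0,0,0,0,-2,0,0,0,0,2,-2,2,2],
  [2,2,-2,2,2,0,2,-2,0,0,2,2,-2,-2,2,0,-2,2,2,-2,0,0,0,0],
  [0,0,0,0,0,2,0,0,2,-2,0,0,4,0,0,2,0,0,0,-4,-2,-2,2,-2],
  [0,0,4,0,0,2,0,0,-2,-2,0,0,0,0,0,2,-4,0,0,0,-2,2,-2,2],
  [0,-4,0,0,0,2,4,0,-2,-2,0,0,0,0,0,-2,0,0,0,0,2,-2,2,2],
  [0,0,0,0,0,2,0,0,2,2,4,0,0,0,0,-2,0,-4,0,0,-2,-2,-2,2],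
  [0,0,0,0,0,2,0,4,-2,2,0,0,0,-4,0,2,0,0,0,0,2,-2,-2,-2],
  [4,0,0,0,0,-2,0,0,-2,-2,0,0,0,0,0,-2,0,0,-4,0,-2,-2,-2,-2],
  [0,0,0,0,4,2,0,0,2,-2,0,-4,0,0,0,-2,0,0,0,0,2,2,-2,-2],
  [0,0,-4,0,0,2,0,0,-2,-2,0,0,0,0,0,2,4,0,0,0,-2,2,-2,2],
  [0,0,0,0,0,2,0,-4,-2,2,0,0,0,4,0,2,0,0,0,0,2,-2,-2,-2],
  [0,0,0,0,0,2,0,0,2,2,-4,0,0,0,0,-2,0,4,0,0,-2,-2,-2,2],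
  [0,0,0,0,0,2,0,0,2,-2,0,0,-4,0,0,2,0,0,0,4,-2,-2,2,-2]]

/-- a power -/
def mp4_3 : List (List ℤ) := [
  [-2,2,2,2,2,2,0,2,-2,-2,2,0,2,0,0,-2,0,0,0,0,-2,-2,-2,-2],
  [-2,-2,-2,2,-2,2,0,2,2,2,2,0,-2,0,0,2,0,0,0,0,-2,-2,2,-2],
  [-2,-2,-2,-2,2,2,0,-2,2,-2,2,0,2,0,0,-2,0,0,0,0,2,-2,2,2],
  [-2,-2,2,-2,-2,2,0,2,2,-2,-2,0,2,0,0,2,0,0,0,0,2,2,-2,-2],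
  [-2,2,2,-2,-2,2,0,-2,-2,2,2,0,-2,0,0,2,0,0,0,0,2,-2,-2,2],
  [-4,0,0,0,0,-4,-2,0,0,0,0,-2,0,-2,-2,0,-2,-2,-2,-2,0,0,0,0],
  [0,0,0,0,0,0,-2,0,0,-4,0,-2,-4,2,2,0,-2,2,-2,2,0,0,0,0],
  [-2,2,-2,2,-2,2,0,-2,-2,-2,-2,0,2,0,0,2,0,0,0,0,-2,2,2,2],
  [0,0,0,0,0,0,2,0,0,-4,0,2,-4,-2,-2,0,2,-2,2,-2,0,0,0,0],
  [0,0,0,0,0,0,2,0,0,0,-4,-2,0,2,-2,0,-2,-2,2,2,0,-4,0,0],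
  [-2,2,-2,-2,2,2,0,2,-2,2,-2,0,-2,0,0,-2,0,0,0,0,2,2,2,-2],
  [0,0,0,0,0,0,2,-4,0,0,0,-2,0,2,-2,0,2,2,-2,-2,0,0,0,-4],
  [-2,-2,2,2,2,2,0,-2,2,2,-2,0,-2,0,0,-2,0,0,0,0,-2,2,-2,2],
  [0,0,-4,0,0,0,2,0,0,0,0,-2,0,-2,2,0,2,-2,-2,2,0,0,-4,0],
  [0,0,0,0,-4,0,-2,0,0,0,0,2,0,2,-2,-4,2,-2,-2,2,0,0,0,0],
  [0,0,0,0,0,0,-2,-4,0,0,0,2,0,-2,2,0,-2,-2,2,2,0,0,0,-4],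
  [0,-4,0,0,0,0,2,0,-4,0,0,2,0,-2,-2,0,-2,2,-2,2,0,0,0,0],
  [0,0,0,-4,0,0,2,0,0,0,0,2,0,2,2,0,-2,-2,-2,-2,-4,0,0,0],
  [-4,0,0,0,0,-4,2,0,0,0,0,2,0,2,2,0,2,2,2,2,0,0,0,0],
  [0,0,0,0,0,0,-2,0,0,0,-4,2,0,-2,2,0,2,2,-2,-2,0,-4,0,0],
  [0,0,0,0,-4,0,2,0,0,0,0,-2,0,-2,2,-4,-2,2,2,-2,0,0,0,0],
  [0,0,0,-4,0,0,-2,0,0,0,0,-2,0,-2,-2,0,2,2,2,2,-4,0,0,0],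
  [0,-4,0,0,0,0,-2,0,-4,0,0,-2,0,2,2,0,2,-2,2,-2,0,0,0,0],
  [0,0,-4,0,0,0,-2,0,0,0,0,2,0,2,-2,0,-2,2,2,-2,0,0,-4,0]]

/-- a power -/
def mp4_4 : List (List ℤ) := [
  [-2,-2,-2,-2,-2,-4,0,-2,0,0,-2,0,-2,0,0,0,0,0,-4,0,0,0,0,0],
  [2,-2,-2,-2,2,0,0,2,0,0,2,0,-2,0,0,0,-4,0,0,0,0,0,-4,0],
  [2,-2,-2,2,2,0,0,-2,0,0,-2,0,2,-4,0,0,0,0,0,0,0,0,0,-4],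
  [2,2,-2,-2,-2,0,0,2,0,0,-2,0,2,0,0,0,0,-4,0,0,0,-4,0,0],
  [2,-2,2,-2,-2,0,0,-2,0,0,2,0,2,0,-4,0,0,0,0,0,-4,0,0,0],
  [2,2,2,2,2,-4,0,2,0,0,2,0,2,0,0,0,0,0,-4,0,0,0,0,0],
  [0,0,0,0,0,-2,-2,0,2,2,0,2,0,2,-2,-2,2,2,2,-2,2,-2,-2,-2],
  [2,2,-2,2,-2,0,0,-2,0,0,2,-4,-2,0,0,-4,0,0,0,0,0,0,0,0],
  [-2,2,2,2,-2,0,0,-2,0,0,-2,0,2,0,0,0,-4,0,0,0,0,0,-4,0],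
  [-2,2,-2,-2,2,0,-4,-2,-4,0,2,0,2,0,0,0,0,0,0,0,0,0,0,0],
  [2,2,2,-2,2,0,0,-2,0,-4,-2,0,-2,0,0,0,0,0,0,-4,0,0,0,0],
  [0,0,0,0,0,-2,-2,0,2,-2,0,-2,0,-2,2,2,2,2,2,2,-2,-2,-2,2],
  [2,-2,2,2,-2,0,-4,2,-4,0,-2,0,-2,0,0,0,0,0,0,0,0,0,0,0],
  [0,0,0,0,0,-2,2,0,-2,2,0,2,0,-2,2,-2,-2,2,2,-2,-2,-2,2,2],
  [0,0,0,0,0,-2,2,0,-2,-2,0,-2,0,2,-2,2,-2,2,2,2,2,-2,2,-2],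
  [-2,2,-2,2,2,0,0,2,0,0,-2,0,-2,0,-4,0,0,0,0,0,-4,0,0,0],
  [0,0,0,0,0,-2,-2,0,2,-2,0,2,0,2,2,-2,-2,-2,2,2,-2,2,2,-2],
  [0,0,0,0,0,-2,2,0,-2,-2,0,2,0,-2,-2,-2,2,-2,2,2,2,2,-2,2],
  [0,0,0,0,0,-2,-2,0,2,2,0,-2,0,-2,-2,2,-2,-2,2,-2,2,2,2,2],
  [0,0,0,0,0,-2,2,0,-2,2,0,-2,0,2,2,2,2,-2,2,-2,-2,2,-2,-2],
  [-2,-2,2,2,2,0,0,-2,0,0,2,0,-2,0,0,0,0,-4,0,0,0,-4,0,0],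
  [-2,-2,-2,2,-2,0,0,2,0,-4,2,0,2,0,0,0,0,0,0,-4,0,0,0,0],
  [-2,2,2,-2,-2,0,0,2,0,0,2,0,-2,-4,0,0,0,0,0,0,0,0,0,-4],
  [-2,-2,2,-2,2,0,0,2,0,0,-2,-4,2,0,0,-4,0,0,0,0,0,0,0,0]]

/-- a power -/
def mp4_5 : List (List ℤ) := [
  [2,2,2,2,2,-4,0,2,0,0,2,0,2,0,0,0,0,0,4,0,0,0,0,0],
  [-2,-2,2,-2,2,0,0,2,0,0,-2,4,2,0,0,-4,0,0,0,0,0,0,0,0],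
  [-2,2,-2,2,2,0,0,2,0,0,-2,0,-2,0,4,0,0,0,0,0,-4,0,0,0],
  [-2,2,-2,-2,2,0,4,-2,-4,0,2,0,2,0,0,0,0,0,0,0,0,0,0,0],
  [-2,-2,-2,2,-2,0,0,2,0,-4,2,0,2,0,0,0,0,0,0,4,0,0,0,0],
  [0,0,0,0,0,-2,2,0,2,2,0,2,0,2,2,2,2,2,-2,2,2,2,2,2],
  [-2,-2,2,-2,2,0,0,2,0,0,-2,-4,2,0,0,4,0,0,0,0,0,0,0,0],
  [-2,-2,2,2,2,0,0,-2,0,0,2,0,-2,0,0,0,0,4,0,0,0,-4,0,0],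
  [0,0,0,0,0,-2,-2,0,-2,2,0,-2,0,2,-2,-2,2,-2,-2,2,-2,-2,2,2],
  [0,0,0,0,0,-2,2,0,2,-2,0,-2,0,-2,-2,-2,2,2,-2,-2,-2,2,2,-2],
  [-2,2,2,2,-2,0,0,-2,0,0,-2,0,2,0,0,0,4,0,0,0,0,0,-4,0],
  [-2,-2,-2,2,-2,0,0,2,0,4,2,0,2,0,0,0,0,0,0,-4,0,0,0,0],
  [-2,2,2,-2,-2,0,0,2,0,0,2,0,-2,4,0,0,0,0,0,0,0,0,0,-4],
  [-2,-2,2,2,2,0,0,-2,0,0,2,0,-2,0,0,0,0,-4,0,0,0,4,0,0],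
  [-2,2,-2,-2,2,0,-4,-2,4,0,2,0,2,0,0,0,0,0,0,0,0,0,0,0],
  [0,0,0,0,0,-2,-2,0,-2,-2,0,-2,0,2,2,-2,-2,2,-2,-2,2,2,-2,2],
  [-2,2,-2,2,2,0,0,2,0,0,-2,0,-2,0,-4,0,0,0,0,0,4,0,0,0],
  [-2,2,2,2,-2,0,0,-2,0,0,-2,0,2,0,0,0,-4,0,0,0,0,0,4,0],
  [2,2,2,2,2,4,0,2,0,0,2,0,2,0,0,0,0,0,-4,0,0,0,0,0],
  [-2,2,2,-2,-2,0,0,2,0,0,2,0,-2,-4,0,0,0,0,0,0,0,0,0,4],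
  [0,0,0,0,0,-2,-2,0,-2,2,0,2,0,-2,-2,2,-2,2,-2,2,-2,2,-2,-2],
  [0,0,0,0,0,-2,2,0,2,2,0,-2,0,-2,2,-2,-2,-2,-2,2,2,-2,-2,-2],
  [0,0,0,0,0,-2,2,0,2,-2,0,2,0,2,-2,2,-2,-2,-2,-2,-2,-2,-2,2],
  [0,0,0,0,0,-2,-2,0,-2,-2,0,2,0,-2,2,2,2,-2,-2,-2,2,-2,2,-2]]

/-- a power -/
def mp4_6 : List (List ℤ) := [
  [-4,0,0,0,0,2,0,0,2,2,0,0,0,0,0,2,0,0,-4,0,2,2,2,2],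
  [0,0,0,0,0,-2,0,0,-2,-2,-4,0,0,0,0,2,0,-4,0,0,2,2,2,-2],
  [0,0,0,0,0,-2,0,0,-2,2,0,0,-4,0,0,-2,0,0,0,-4,2,2,-2,2],
  [0,0,0,0,0,-2,0,-4,2,-2,0,0,0,-4,0,-2,0,0,0,0,-2,2,2,2],
  [0,0,-4,0,0,-2,0,0,2,2,0,0,0,0,0,-2,-4,0,0,0,2,-2,2,-2],
  [4,0,0,0,0,2,0,0,2,2,0,0,0,0,0,2,0,0,4,0,2,2,2,2],
  [2,2,-2,-2,-2,0,-2,2,0,0,2,2,2,-2,2,0,2,-2,-2,-2,0,0,0,0],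
  [0,-4,0,0,0,-2,-4,0,2,2,0,0,0,0,0,2,0,0,0,0,-2,2,-2,-2],
  [0,0,0,0,0,-2,0,0,-2,-2,4,0,0,0,0,2,0,4,0,0,2,2,2,-2],
  [0,0,0,4,0,-2,0,0,2,-2,0,0,0,0,4,2,0,0,0,0,2,-2,-2,2],
  [0,0,0,0,-4,-2,0,0,-2,2,0,-4,0,0,0,2,0,0,0,0,-2,-2,2,2],
  [2,-2,2,-2,2,0,2,2,0,0,2,-2,-2,-2,2,0,-2,-2,-2,2,0,0,0,0],
  [0,0,0,-4,0,-2,0,0,2,-2,0,0,0,0,-4,2,0,0,0,0,2,-2,-2,2],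
  [2,2,2,2,-2,0,-2,2,0,0,-2,2,-2,-2,-2,0,-2,2,-2,2,0,0,0,0],
  [2,-2,-2,2,2,0,2,2,0,0,-2,-2,2,-2,-2,0,2,2,-2,-2,0,0,0,0],
  [0,0,4,0,0,-2,0,0,2,2,0,0,0,0,0,-2,4,0,0,0,2,-2,2,-2],
  [2,2,2,-2,2,0,-2,-2,0,0,-2,-2,2,2,2,0,-2,2,-2,-2,0,0,0,0],
  [2,2,-2,2,2,0,-2,-2,0,0,2,-2,-2,2,-2,0,2,-2,-2,2,0,0,0,0],
  [2,-2,-2,-2,-2,0,2,-2,0,0,-2,2,-2,2,2,0,2,2,-2,2,0,0,0,0],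
  [2,-2,2,2,-2,0,2,-2,0,0,2,2,2,2,-2,0,-2,-2,-2,-2,0,0,0,0],
  [0,0,0,0,0,-2,0,4,2,-2,0,0,0,4,0,-2,0,0,0,0,-2,2,2,2],
  [0,0,0,0,4,-2,0,0,-2,2,0,4,0,0,0,2,0,0,0,0,-2,-2,2,2],
  [0,0,0,0,0,-2,0,0,-2,2,0,0,4,0,0,-2,0,0,0,4,2,2,-2,2],
  [0,4,0,0,0,-2,4,0,2,2,0,0,0,0,0,2,0,0,0,0,-2,2,-2,-2]]

end Cfsg.Agent.Spor.CoSeven
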