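import Cfsg.Agent.Lib.Spor.CoSeven.Mat
import Cfsg.Agent.Lib.Spor.CoSeven.Data
import Cfsg.Agent.Lib.Spor.CoSeven.DataPow

/-!
Finite checks on the matrices.
-/

set_option autoImplicit false
set_option maxRecDepth 100000
set_option Elab.async false

namespace Cfsg.Agent.Spor.CoSeven

open Cfsg Cfsg.Agent.Spor.MonsterFusion

/-- the generators -/
def xM (i : ℕ) : List (List ℤ) := [xM0, xM1, xM2, xM3, xM4].getD i []

/-- sum of matrices -/
def addL (A B : List (List ℤ)) : List (List ℤ) := List.zipWith (List.zipWith (· + ·)) A B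

/-- powers -/
def pwL (A : List (List ℤ)) : ℕ → List (List ℤ)
  | 0 => oneL
  | k + 1 => mulL A (pwL A k)

/-- the zero matrix -/
def zeroL : List (List ℤ) := (List.range 24).map fun _ => (List.range 24).map fun _ => 0

/-- the sum of the first powers -/
def phiL (A : List (List ℤ)) : ℕ → List (List ℤ)
  | 0 => zeroL
  | k + 1 => addL (phiL A k) (pwL A k)

theorem pel_rows : ∀ i p : GolayPt, row pelM i p = if p = Co1Seven.sx i then 8 else 0 := by decide +kernel

theorem pel_shape : shape pelM = true := by decide +kernel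

theorem gam_pel : mulL gamM pelM = mulL pelM gamM := by decide +kernel

theorem gam_x : ∀ i : Fin 5, mulL gamM (xM i) = mulL (xM i) gamM := by decide +kernel

theorem x_cube : ∀ i : Fin 5, pwL (xM i) 3 = oneL := by decide +kernel

theorem x_pair0 : ∀ j : Fin 5, 0 ≠ j → pwL (mulL (xM j) xM0) 2 = negL := by decide +kernel

theorem x_pair1 : ∀ j : Fin 5, 1 ≠ j → pwL (mulL (xM j) xM1) 2 = negL := by decide +kernel

theorem x_pair2 : ∀ j : Fin 5, 2 ≠ j → pwL (mulL (xM j) xM2) 2 = negL := by decide +kernel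

theorem x_pair3 : ∀ j : Fin 5, 3 ≠ j → pwL (mulL (xM j) xM3) 2 = negL := by decide +kernel

theorem x_pair4 : ∀ j : Fin 5, 4 ≠ j → pwL (mulL (xM j) xM4) 2 = negL := by decide +kernel

theorem x_pair : ∀ i j : Fin 5, i ≠ j → pwL (mulL (xM j) (xM i)) 2 = negL := by
  intro i j h
  fin_cases i
  exacts [x_pair0 j h, x_pair1 j h, x_pair2 j h, x_pair3 j h, x_pair4 j h]

theorem gp0_eq : pwL (gamM) 0 = oneL := rfl

theorem gp1_step : mulL (gamM) oneL = gp1 := by decide +kernel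

theorem gp1_eq : pwL (gamM) 1 = gp1 := by rw [pwL, gp0_eq, gp1_step]

theorem gp2_step : mulL (gamM) gp1 = gp2 := by decide +kernel

theorem gp2_eq : pwL (gamM) 2 = gp2 := by rw [pwL, gp1_eq, gp2_step]

theorem gp3_step : mulL (gamM) gp2 = gp3 := by decide +kernel

theorem gp3_eq : pwL (gamM) 3 = gp3 := by rw [pwL, gp2_eq, gp3_step]

theorem gp4_step : mulL (gamM) gp3 = gp4 := by decide +kernel

theorem gp4_eq : pwL (gamM) 4 = gp4 := by rw [pwL, gp3_eq, gp4_step]

theorem gp5_step : mulL (gamM) gp4 = gp5 := by decide +kernel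

theorem gp5_eq : pwL (gamM) 5 = gp5 := by rw [pwL, gp4_eq, gp5_step]

theorem gp6_step : mulL (gamM) gp5 = gp6 := by decide +kernel

theorem gp6_eq : pwL (gamM) 6 = gp6 := by rw [pwL, gp5_eq, gp6_step]

theorem gp_sum : addL (addL (addL (addL (addL (addL (addL zeroL oneL) gp1) gp2) gp3) gp4) gp5) gp6 = zeroL := by decide +kernel

theorem gp_phi : phiL (gamM) 7 = zeroL := by
  simp only [phiL]
  rw [gp0_eq, gp1_eq, gp2_eq, gp3_eq, gp4_eq, gp5_eq, gp6_eq]
  exact gp_sum

theorem mix1_eq : mulL (pwL gamM 1) pelM = mix1 := by rw [gp1_eq]; decide +kernel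

theorem mp1_0_eq : pwL (mix1) 0 = oneL := rfl

theorem mp1_1_step : mulL (mix1) oneL = mp1_1 := by decide +kernel

theorem mp1_1_eq : pwL (mix1) 1 = mp1_1 := by rw [pwL, mp1_0_eq, mp1_1_step]

theorem mp1_2_step : mulL (mix1) mp1_1 = mp1_2 := by decide +kernel

theorem mp1_2_eq : pwL (mix1) 2 = mp1_2 := by rw [pwL, mp1_1_eq, mp1_2_step]

theorem mp1_3_step : mulL (mix1) mp1_2 = mp1_3 := by decide +kernel

theorem mp1_3_eq : pwL (mix1) 3 = mp1_3 := by rw [pwL, mp1_2_eq, mp1_3_step]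

theorem mp1_4_step : mulL (mix1) mp1_3 = mp1_4 := by decide +kernel

theorem mp1_4_eq : pwL (mix1) 4 = mp1_4 := by rw [pwL, mp1_3_eq, mp1_4_step]

theorem mp1_5_step : mulL (mix1) mp1_4 = mp1_5 := by decide +kernel

theorem mp1_5_eq : pwL (mix1) 5 = mp1_5 := by rw [pwL, mp1_4_eq, mp1_5_step]

theorem mp1_6_step : mulL (mix1) mp1_5 = mp1_6 := by decide +kernel

theorem mp1_6_eq : pwL (mix1) 6 = mp1_6 := by rw [pwL, mp1_5_eq, mp1_6_step]

theorem mp1_sum : addL (addL (addL (addL (addL (addL (addL zeroL oneL) mp1_1) mp1_2) mp1_3) mp1_4) mp1_5) mp1_6 = zeroL := by decide +kernel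

theorem mp1_phi : phiL (mix1) 7 = zeroL := by
  simp only [phiL]
  rw [mp1_0_eq, mp1_1_eq, mp1_2_eq, mp1_3_eq, mp1_4_eq, mp1_5_eq, mp1_6_eq]
  exact mp1_sum

theorem mix_phi1 : phiL (mulL (pwL gamM 1) pelM) 7 = zeroL := by rw [mix1_eq]; exact mp1_phi

theorem mix2_eq : mulL (pwL gamM 2) pelM = mix2 := by rw [gp2_eq]; decide +kernel

theorem mp2_0_eq : pwL (mix2) 0 = oneL := rfl

theorem mp2_1_step : mulL (mix2) oneL = mp2_1 := by decide +kernel

theorem mp2_1_eq : pwL (mix2) 1 = mp2_1 := by rw [pwL, mp2_0_eq, mp2_1_step]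

theorem mp2_2_step : mulL (mix2) mp2_1 = mp2_2 := by decide +kernel

theorem mp2_2_eq : pwL (mix2) 2 = mp2_2 := by rw [pwL, mp2_1_eq, mp2_2_step]

theorem mp2_3_step : mulL (mix2) mp2_2 = mp2_3 := by decide +kernel

theorem mp2_3_eq : pwL (mix2) 3 = mp2_3 := by rw [pwL, mp2_2_eq, mp2_3_step]

theorem mp2_4_step : mulL (mix2) mp2_3 = mp2_4 := by decide +kernel

theorem mp2_4_eq : pwL (mix2) 4 = mp2_4 := by rw [pwL, mp2_3_eq, mp2_4_step]

theorem mp2_5_step : mulL (mix2) mp2_4 = mp2_5 := by decide +kernel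

theorem mp2_5_eq : pwL (mix2) 5 = mp2_5 := by rw [pwL, mp2_4_eq, mp2_5_step]

theorem mp2_6_step : mulL (mix2) mp2_5 = mp2_6 := by decide +kernel

theorem mp2_6_eq : pwL (mix2) 6 = mp2_6 := by rw [pwL, mp2_5_eq, mp2_6_step]

theorem mp2_sum : addL (addL (addL (addL (addL (addL (addL zeroL oneL) mp2_1) mp2_2) mp2_3) mp2_4) mp2_5) mp2_6 = zeroL := by decide +kernel

theorem mp2_phi : phiL (mix2) 7 = zeroL := by
  simp only [phiL]
  rw [mp2_0_eq, mp2_1_eq, mp2_2_eq, mp2_3_eq, mp2_4_eq, mp2_5_eq, mp2_6_eq]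
  exact mp2_sum

theorem mix_phi2 : phiL (mulL (pwL gamM 2) pelM) 7 = zeroL := by rw [mix2_eq]; exact mp2_phi

theorem mix4_eq : mulL (pwL gamM 4) pelM = mix4 := by rw [gp4_eq]; decide +kernel

theorem mp4_0_eq : pwL (mix4) 0 = oneL := rfl

theorem mp4_1_step : mulL (mix4) oneL = mp4_1 := by decide +kernel

theorem mp4_1_eq : pwL (mix4) 1 = mp4_1 := by rw [pwL, mp4_0_eq, mp4_1_step]

theorem mp4_2_step : mulL (mix4) mp4_1 = mp4_2 := by decide +kernel

theorem mp4_2_eq : pwL (mix4) 2 = mp4_2 := by rw [pwL, mp4_1_eq, mp4_2_step]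

theorem mp4_3_step : mulL (mix4) mp4_2 = mp4_3 := by decide +kernel

theorem mp4_3_eq : pwL (mix4) 3 = mp4_3 := by rw [pwL, mp4_2_eq, mp4_3_step]

theorem mp4_4_step : mulL (mix4) mp4_3 = mp4_4 := by decide +kernel

theorem mp4_4_eq : pwL (mix4) 4 = mp4_4 := by rw [pwL, mp4_3_eq, mp4_4_step]

theorem mp4_5_step : mulL (mix4) mp4_4 = mp4_5 := by decide +kernel

theorem mp4_5_eq : pwL (mix4) 5 = mp4_5 := by rw [pwL, mp4_4_eq, mp4_5_step]

theorem mp4_6_step : mulL (mix4) mp4_5 = mp4_6 := by decide +kernel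

theorem mp4_6_eq : pwL (mix4) 6 = mp4_6 := by rw [pwL, mp4_5_eq, mp4_6_step]

theorem mp4_sum : addL (addL (addL (addL (addL (addL (addL zeroL oneL) mp4_1) mp4_2) mp4_3) mp4_4) mp4_5) mp4_6 = zeroL := by decide +kernel

theorem mp4_phi : phiL (mix4) 7 = zeroL := by
  simp only [phiL]
  rw [mp4_0_eq, mp4_1_eq, mp4_2_eq, mp4_3_eq, mp4_4_eq, mp4_5_eq, mp4_6_eq]
  exact mp4_sum

theorem mix_phi4 : phiL (mulL (pwL gamM 4) pelM) 7 = zeroL := by rw [mix4_eq]; exact mp4_phi

/-- one fixed vector -/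
def fixOK (M : List (List ℤ)) (v : List ℤ) : Bool :=
  v.length == 24 && leechCheck (vecOf v) && v.any (· != 0) &&
    (List.range 24).all fun k => dotL v ((trL M).getD k []) == 8 * v.getD k 0

theorem fix_zero : fixOK pelM ((fixV.getD 0 (0, [])).2) = true := by decide +kernel

theorem fix_3 : fixOK (mulL (pwL gamM 3) pelM) ((fixV.getD 1 (0, [])).2) = true := by
  rw [gp3_eq]; decide +kernel

theorem fix_5 : fixOK (mulL (pwL gamM 5) pelM) ((fixV.getD 2 (0, [])).2) = true := by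
  rw [gp5_eq]; decide +kernel

theorem fix_6 : fixOK (mulL (pwL gamM 6) pelM) ((fixV.getD 3 (0, [])).2) = true := by
  rw [gp6_eq]; decide +kernel

/-- residue representatives lie in the lattice -/
theorem resB_ok : ∀ i < 4, leechCheck (vecOf (resB.getD i [])) = true ∧ (resB.getD i []).length = 24 := by
  decide +kernel

/-- the powers as data -/
def gpN (j : ℕ) : List (List ℤ) := [oneL, gp1, gp2, gp3, gp4, gp5, gp6].getD j []

theorem gpN_eq : ∀ j < 7, pwL gamM j = gpN j := by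
  intro j hj
  interval_cases j
  exacts [gp0_eq, gp1_eq, gp2_eq, gp3_eq, gp4_eq, gp5_eq, gp6_eq]

/-- the Gram matrix -/
def gram (i k : ℕ) : ℤ :=
  let v := resB.getD k []
  ((List.range 7).map fun (j : ℕ) => (j : ℤ) *
    dotL (resB.getD i []) ((trL (gpN j)).map fun c => dotL v c / 8)).sum

/-- expected entries modulo seven -/
def gramJ : List (List ℤ) := [[0, 0, 6, 0], [0, 0, 0, 6], [1, 0, 0, 0], [0, 1, 0, 0]]

theorem gram_ok : ∀ i : Fin 4, ∀ k : Fin 4, gram i k % 7 = (gramJ.getD i []).getD k 0 := by decide +kernel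

/-- one witness -/
def witOK (t : List ℤ) (e : List ℤ × List ℤ) : Bool :=
  leechCheck (vecOf e.2) && e.1.length == 4 && e.2.length == 24 &&
    (List.range 24).all fun k => 8 * (t.getD k 0 - e.2.getD k 0 -
      ((List.range 4).map fun i => e.1.getD i 0 * (resB.getD i []).getD k 0).sum) ==
        -dotL e.2 ((trL gamM).getD k [])

theorem wit_ok : gensL.length = resW.length ∧ ((List.zipWith witOK gensL resW).all fun b => b) = true := by
  decide +kernel

/-- the matrix of the action on half of the fixed classes -/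
def actA : Matrix (Fin 3) (Fin 3) (ZMod 2) := !![0, 1, 0; 0, 1, 1; 1, 0, 1]

theorem gam_act : ∀ a : Fin 3 → ZMod 2, Co1Seven.congB
    (fun k => (∑ i, Co1Seven.combF (Co1Seven.up a) i * row gamM i k) / 8)
    (Co1Seven.combF (Co1Seven.up (actA.mulVec a))) = true := by decide +kernel

theorem act_cent : ((Finset.univ : Finset (Matrix (Fin 3) (Fin 3) (ZMod 2))).filter
    fun M => M.det = 1 ∧ M * actA = actA * M).card ≤ 7 := by decide +kernel

end Cfsg.Agent.Spor.CoSeven
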