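import Cfsg.Agent.Lib.Spor.CoSeven.Mat
import Cfsg.Agent.Lib.Spor.CoSeven.Data

/-!
The matrices are automorphisms of the lattice.
-/

set_option autoImplicit false
set_option maxRecDepth 100000
set_option Elab.async false

namespace Cfsg.Agent.Spor.CoSeven

theorem gens_split : gensL = (gensL.drop 0).take 15 ++ ((gensL.drop 15).take 15 ++ ((gensL.drop 30).take 15 ++
    (gensL.drop 45).take 15)) := by decide +kernel

theorem keep_of {A : List (List ℤ)} (h0 : ((gensL.drop 0).take 15).all (imgOK A) = true)
    (h1 : ((gensL.drop 15).take 15).all (imgOK A) = true) (h2 : ((gensL.drop 30).take 15).all (imgOK A) = true)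
    (h3 : ((gensL.drop 45).take 15).all (imgOK A) = true) : keepL A = true := by
  rw [keepL, gens_split, List.all_append, List.all_append, List.all_append, h0, h1, h2, h3]
  rfl

theorem keep_gamM_0 : ((gensL.drop 0).take 15).all (imgOK gamM) = true := by decide +kernel

theorem keep_gamM_1 : ((gensL.drop 15).take 15).all (imgOK gamM) = true := by decide +kernel

theorem keep_gamM_2 : ((gensL.drop 30).take 15).all (imgOK gamM) = true := by decide +kernel

theorem keep_gamM_3 : ((gensL.drop 45).take 15).all (imgOK gamM) = true := by decide +kernel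

theorem orth_gamM : orthL gamM = true := by decide +kernel

theorem keep_gamMT_0 : ((gensL.drop 0).take 15).all (imgOK (trL gamM)) = true := by decide +kernel

theorem keep_gamMT_1 : ((gensL.drop 15).take 15).all (imgOK (trL gamM)) = true := by decide +kernel

theorem keep_gamMT_2 : ((gensL.drop 30).take 15).all (imgOK (trL gamM)) = true := by decide +kernel

theorem keep_gamMT_3 : ((gensL.drop 45).take 15).all (imgOK (trL gamM)) = true := by decide +kernel

theorem orth_gamMT : orthL (trL gamM) = true := by decide +kernel

theorem shape_gamM : shape gamM = true := by decide +kernel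

theorem good_gamM : goodM gamM = true := by
  rw [goodM, shape_gamM, keep_of keep_gamM_0 keep_gamM_1 keep_gamM_2 keep_gamM_3,
    keep_of keep_gamMT_0 keep_gamMT_1 keep_gamMT_2 keep_gamMT_3, orth_gamM, orth_gamMT]
  rfl

theorem keep_xM0_0 : ((gensL.drop 0).take 15).all (imgOK xM0) = true := by decide +kernel

theorem keep_xM0_1 : ((gensL.drop 15).take 15).all (imgOK xM0) = true := by decide +kernel

theorem keep_xM0_2 : ((gensL.drop 30).take 15).all (imgOK xM0) = true := by decide +kernel

theorem keep_xM0_3 : ((gensL.drop 45).take 15).all (imgOK xM0) = true := by decide +kernel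

theorem orth_xM0 : orthL xM0 = true := by decide +kernel

theorem keep_xM0T_0 : ((gensL.drop 0).take 15).all (imgOK (trL xM0)) = true := by decide +kernel

theorem keep_xM0T_1 : ((gensL.drop 15).take 15).all (imgOK (trL xM0)) = true := by decide +kernel

theorem keep_xM0T_2 : ((gensL.drop 30).take 15).all (imgOK (trL xM0)) = true := by decide +kernel

theorem keep_xM0T_3 : ((gensL.drop 45).take 15).all (imgOK (trL xM0)) = true := by decide +kernel

theorem orth_xM0T : orthL (trL xM0) = true := by decide +kernel

theorem shape_xM0 : shape xM0 = true := by decide +kernel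

theorem good_xM0 : goodM xM0 = true := by
  rw [goodM, shape_xM0, keep_of keep_xM0_0 keep_xM0_1 keep_xM0_2 keep_xM0_3,
    keep_of keep_xM0T_0 keep_xM0T_1 keep_xM0T_2 keep_xM0T_3, orth_xM0, orth_xM0T]
  rfl

theorem keep_xM1_0 : ((gensL.drop 0).take 15).all (imgOK xM1) = true := by decide +kernel

theorem keep_xM1_1 : ((gensL.drop 15).take 15).all (imgOK xM1) = true := by decide +kernel

theorem keep_xM1_2 : ((gensL.drop 30).take 15).all (imgOK xM1) = true := by decide +kernel

theorem keep_xM1_3 : ((gensL.drop 45).take 15).all (imgOK xM1) = true := by decide +kernel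

theorem orth_xM1 : orthL xM1 = true := by decide +kernel

theorem keep_xM1T_0 : ((gensL.drop 0).take 15).all (imgOK (trL xM1)) = true := by decide +kernel

theorem keep_xM1T_1 : ((gensL.drop 15).take 15).all (imgOK (trL xM1)) = true := by decide +kernel

theorem keep_xM1T_2 : ((gensL.drop 30).take 15).all (imgOK (trL xM1)) = true := by decide +kernel

theorem keep_xM1T_3 : ((gensL.drop 45).take 15).all (imgOK (trL xM1)) = true := by decide +kernel

theorem orth_xM1T : orthL (trL xM1) = true := by decide +kernel

theorem shape_xM1 : shape xM1 = true := by decide +kernel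

theorem good_xM1 : goodM xM1 = true := by
  rw [goodM, shape_xM1, keep_of keep_xM1_0 keep_xM1_1 keep_xM1_2 keep_xM1_3,
    keep_of keep_xM1T_0 keep_xM1T_1 keep_xM1T_2 keep_xM1T_3, orth_xM1, orth_xM1T]
  rfl

theorem keep_xM2_0 : ((gensL.drop 0).take 15).all (imgOK xM2) = true := by decide +kernel

theorem keep_xM2_1 : ((gensL.drop 15).take 15).all (imgOK xM2) = true := by decide +kernel

theorem keep_xM2_2 : ((gensL.drop 30).take 15).all (imgOK xM2) = true := by decide +kernel

theorem keep_xM2_3 : ((gensL.drop 45).take 15).all (imgOK xM2) = true := by decide +kernel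

theorem orth_xM2 : orthL xM2 = true := by decide +kernel

theorem keep_xM2T_0 : ((gensL.drop 0).take 15).all (imgOK (trL xM2)) = true := by decide +kernel

theorem keep_xM2T_1 : ((gensL.drop 15).take 15).all (imgOK (trL xM2)) = true := by decide +kernel

theorem keep_xM2T_2 : ((gensL.drop 30).take 15).all (imgOK (trL xM2)) = true := by decide +kernel

theorem keep_xM2T_3 : ((gensL.drop 45).take 15).all (imgOK (trL xM2)) = true := by decide +kernel

theorem orth_xM2T : orthL (trL xM2) = true := by decide +kernel

theorem shape_xM2 : shape xM2 = true := by decide +kernel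

theorem good_xM2 : goodM xM2 = true := by
  rw [goodM, shape_xM2, keep_of keep_xM2_0 keep_xM2_1 keep_xM2_2 keep_xM2_3,
    keep_of keep_xM2T_0 keep_xM2T_1 keep_xM2T_2 keep_xM2T_3, orth_xM2, orth_xM2T]
  rfl

theorem keep_xM3_0 : ((gensL.drop 0).take 15).all (imgOK xM3) = true := by decide +kernel

theorem keep_xM3_1 : ((gensL.drop 15).take 15).all (imgOK xM3) = true := by decide +kernel

theorem keep_xM3_2 : ((gensL.drop 30).take 15).all (imgOK xM3) = true := by decide +kernel

theorem keep_xM3_3 : ((gensL.drop 45).take 15).all (imgOK xM3) = true := by decide +kernel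

theorem orth_xM3 : orthL xM3 = true := by decide +kernel

theorem keep_xM3T_0 : ((gensL.drop 0).take 15).all (imgOK (trL xM3)) = true := by decide +kernel

theorem keep_xM3T_1 : ((gensL.drop 15).take 15).all (imgOK (trL xM3)) = true := by decide +kernel

theorem keep_xM3T_2 : ((gensL.drop 30).take 15).all (imgOK (trL xM3)) = true := by decide +kernel

theorem keep_xM3T_3 : ((gensL.drop 45).take 15).all (imgOK (trL xM3)) = true := by decide +kernel

theorem orth_xM3T : orthL (trL xM3) = true := by decide +kernel

theorem shape_xM3 : shape xM3 = true := by decide +kernel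

theorem good_xM3 : goodM xM3 = true := by
  rw [goodM, shape_xM3, keep_of keep_xM3_0 keep_xM3_1 keep_xM3_2 keep_xM3_3,
    keep_of keep_xM3T_0 keep_xM3T_1 keep_xM3T_2 keep_xM3T_3, orth_xM3, orth_xM3T]
  rfl

theorem keep_xM4_0 : ((gensL.drop 0).take 15).all (imgOK xM4) = true := by decide +kernel

theorem keep_xM4_1 : ((gensL.drop 15).take 15).all (imgOK xM4) = true := by decide +kernel

theorem keep_xM4_2 : ((gensL.drop 30).take 15).all (imgOK xM4) = true := by decide +kernel

theorem keep_xM4_3 : ((gensL.drop 45).take 15).all (imgOK xM4) = true := by decide +kernel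

theorem orth_xM4 : orthL xM4 = true := by decide +kernel

theorem keep_xM4T_0 : ((gensL.drop 0).take 15).all (imgOK (trL xM4)) = true := by decide +kernel

theorem keep_xM4T_1 : ((gensL.drop 15).take 15).all (imgOK (trL xM4)) = true := by decide +kernel

theorem keep_xM4T_2 : ((gensL.drop 30).take 15).all (imgOK (trL xM4)) = true := by decide +kernel

theorem keep_xM4T_3 : ((gensL.drop 45).take 15).all (imgOK (trL xM4)) = true := by decide +kernel

theorem orth_xM4T : orthL (trL xM4) = true := by decide +kernel

theorem shape_xM4 : shape xM4 = true := by decide +kernel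

theorem good_xM4 : goodM xM4 = true := by
  rw [goodM, shape_xM4, keep_of keep_xM4_0 keep_xM4_1 keep_xM4_2 keep_xM4_3,
    keep_of keep_xM4T_0 keep_xM4T_1 keep_xM4T_2 keep_xM4T_3, orth_xM4, orth_xM4T]
  rfl

end Cfsg.Agent.Spor.CoSeven
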