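import Mathlib

/-!
In the symplectic group of dimension four over the field with seven elements an element of order five
commutes with no element of order three.
-/

set_option autoImplicit false
set_option linter.style.haveILetI false

namespace Cfsg.Agent.Spor.CoSeven

open Matrix

local notation "F" => ZMod 7
local notation "ι" => Fin 2 ⊕ Fin 2

instance sevenPrime : Fact (Nat.Prime 7) := ⟨by norm_num⟩

theorem sub_dim {X : Matrix ι ι F} (h5 : X ^ 5 = 1) {U : Submodule F (ι → F)}
    (hinv : ∀ v ∈ U, X *ᵥ v ∈ U) (hfix : ∀ v ∈ U, X *ᵥ v = v → v = 0) : U = ⊥ ∨ U = ⊤ := by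
  classical
  haveI : Fact (Nat.Prime 5) := ⟨by norm_num⟩
  haveI := Fintype.ofFinite U
  have h5' : ∀ w : ι → F, X *ᵥ (X *ᵥ (X *ᵥ (X *ᵥ (X *ᵥ w)))) = w := fun w => by
    simp only [Matrix.mulVec_mulVec]
    rw [show X * (X * (X * (X * X))) = X ^ 5 by noncomm_ring, h5, Matrix.one_mulVec]
  let e : Equiv.Perm U :=
    { toFun := fun v => ⟨X *ᵥ v.1, hinv _ v.2⟩
      invFun := fun v => ⟨X *ᵥ (X *ᵥ (X *ᵥ (X *ᵥ v.1))), hinv _ (hinv _ (hinv _ (hinv _ v.2)))⟩
      left_inv := fun v => Subtype.ext (h5' v.1)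
      right_inv := fun v => Subtype.ext (h5' v.1) }
  have he : e ^ 5 ^ 1 = 1 := Equiv.ext fun v => Subtype.ext (by
    show ((e ^ 5) v).1 = v.1
    rw [show (e ^ 5) v = e (e (e (e (e v)))) from rfl]
    exact h5' v.1)
  have hm := Equiv.Perm.card_compl_support_modEq (p := 5) (n := 1) he
  have hs : e.supportᶜ = {0} := by
    ext v
    simp only [Finset.mem_compl, Equiv.Perm.mem_support, not_not, Finset.mem_singleton]
    exact ⟨fun h => Subtype.ext (hfix _ v.2 (congrArg Subtype.val h)), fun h => by
      subst h; exact Subtype.ext (Matrix.mulVec_zero X)⟩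
  rw [hs, Finset.card_singleton, Module.card_eq_pow_finrank (K := F) (V := U), ZMod.card] at hm
  have hle : Module.finrank F U ≤ 4 := (Submodule.finrank_le U).trans (by simp)
  have : Module.finrank F U = 0 ∨ Module.finrank F U = 4 := by
    rcases Nat.lt_or_ge (Module.finrank F U) 1 with h | h
    · omega
    · generalize Module.finrank F U = d at hm hle h
      interval_cases d
      all_goals first
        | omega
        | (exfalso; revert hm; decide)
  rcases this with h | h
  · exact Or.inl (Submodule.finrank_eq_zero.1 h)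
  · exact Or.inr (Submodule.eq_top_of_finrank_eq (by rw [h]; simp))

/-- no elements of order fifteen -/
theorem five_three {X Y : Matrix ι ι F} (hX : X ^ 5 = 1) (hX1 : X ≠ 1) (hY : Y ^ 3 = 1) (hc : X * Y = Y * X)
    (hJ : Yᵀ * J (Fin 2) F * Y = J (Fin 2) F) : Y = 1 := by
  classical
  have hr : LinearMap.range (Matrix.mulVecLin (X - 1)) = ⊤ := by
    refine (sub_dim hX (fun v hv => ?_) fun v hv h => ?_).resolve_left fun h => hX1 ?_
    · obtain ⟨w, rfl⟩ := hv
      refine ⟨X *ᵥ w, ?_⟩
      simp only [Matrix.mulVecLin_apply, Matrix.mulVec_mulVec]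
      congr 1
      noncomm_ring
    · obtain ⟨w, rfl⟩ := hv
      simp only [Matrix.mulVecLin_apply] at h ⊢
      have e : ∀ n : ℕ, X ^ n *ᵥ w = w + n • ((X - 1) *ᵥ w) := by
        intro n
        induction n with
        | zero => simp
        | succ n ih =>
          rw [pow_succ', ← Matrix.mulVec_mulVec, ih, Matrix.mulVec_add, Matrix.mulVec_smul, h, succ_nsmul']
          rw [show X *ᵥ w = w + (X - 1) *ᵥ w by rw [Matrix.sub_mulVec, Matrix.one_mulVec]; abel]
          abel
      have h5 := e 5
      rw [hX, Matrix.one_mulVec, left_eq_add] at h5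
      funext i
      have h6 := congrFun h5 i
      rw [Pi.smul_apply, nsmul_eq_mul, Pi.zero_apply] at h6
      exact (mul_eq_zero.1 h6).resolve_left (by decide)
    · rw [← sub_eq_zero]
      refine Matrix.mulVec_injective (funext fun w => ?_)
      rw [Matrix.zero_mulVec]
      have : Matrix.mulVecLin (X - 1) w ∈ (⊥ : Submodule F (ι → F)) := h ▸ LinearMap.mem_range_self _ w
      simpa only [Submodule.mem_bot, Matrix.mulVecLin_apply] using this
  have hinj : ∀ v, X *ᵥ v = v → v = 0 := fun v hv => by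
    have h1 := LinearMap.injective_iff_surjective.2 (LinearMap.range_eq_top.1 hr)
    refine h1 ?_
    simp [hv]
  have hcase : ∀ c : F, LinearMap.ker (Matrix.mulVecLin (Y - c • 1)) = ⊥ ∨ Y = c • 1 := fun c => by
    have hk : ∀ v ∈ LinearMap.ker (Matrix.mulVecLin (Y - c • 1)),
        X *ᵥ v ∈ LinearMap.ker (Matrix.mulVecLin (Y - c • 1)) := fun v hv => by
      simp only [LinearMap.mem_ker, Matrix.mulVecLin_apply] at hv ⊢
      rw [Matrix.mulVec_mulVec, show (Y - c • 1) * X = X * (Y - c • 1) by
        simp [sub_mul, mul_sub, hc], ← Matrix.mulVec_mulVec, hv, Matrix.mulVec_zero]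
    rcases sub_dim hX hk (fun v _ => hinj v) with h | h
    · exact Or.inl h
    · refine Or.inr (sub_eq_zero.1 (Matrix.mulVec_injective (funext fun w => ?_)))
      have : w ∈ LinearMap.ker (Matrix.mulVecLin (Y - c • 1)) := h ▸ Submodule.mem_top
      rw [Matrix.zero_mulVec]
      simpa only [LinearMap.mem_ker, Matrix.mulVecLin_apply] using this
  have hprod : (Y - (1 : F) • 1) * ((Y - (2 : F) • 1) * (Y - (4 : F) • 1)) = 0 := by
    have h7 : (7 : F) = 0 := by decide
    simp only [mul_sub, sub_mul, smul_mul_assoc, mul_smul_comm, mul_one, one_mul, one_smul, ← mul_assoc]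
    rw [show Y * Y * Y = 1 by rw [← hY]; noncomm_ring]
    ext i j
    simp only [Matrix.sub_apply, Matrix.smul_apply, Matrix.zero_apply, smul_eq_mul]
    linear_combination -(Y * Y) i j * h7 + 2 * Y i j * h7 - (1 : Matrix ι ι F) i j * h7
  have key : ∃ c : F, Y = c • 1 := by
    rcases hcase 1 with h1 | h1
    rotate_left
    · exact ⟨1, h1⟩
    rcases hcase 2 with h2 | h2
    rotate_left
    · exact ⟨2, h2⟩
    rcases hcase 4 with h4 | h4
    rotate_left
    · exact ⟨4, h4⟩
    exfalso
    rw [LinearMap.ker_eq_bot] at h1 h2 h4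
    have hz : ∀ w : ι → F, w = 0 := fun w => by
      have h := congrArg (fun M : Matrix ι ι F => M *ᵥ w) hprod
      simp only [← Matrix.mulVec_mulVec, Matrix.zero_mulVec] at h
      refine h4 ((h2 ((h1 (h.trans (map_zero _).symm)).trans (map_zero _).symm)).trans (map_zero _).symm)
    exact one_ne_zero (congrFun (hz fun _ => 1) (Sum.inl 0))
  obtain ⟨c, rfl⟩ := key
  have h3 := congrFun (congrFun hY (Sum.inl 0)) (Sum.inl 0)
  have h2 := congrFun (congrFun hJ (Sum.inl 0)) (Sum.inr 0)
  simp only [smul_pow, one_pow, Matrix.smul_apply, Matrix.one_apply_eq, smul_eq_mul, mul_one] at h3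
  simp [Matrix.transpose_smul, Matrix.J] at h2
  have hc1 : c = 1 := by
    have : ∀ d : F, d ^ 3 = 1 → d * d = 1 → d = 1 := by decide
    exact this c h3 (by simpa [pow_two] using h2)
  rw [hc1, one_smul]

end Cfsg.Agent.Spor.CoSeven
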