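import Cfsg.Agent.Lib.Spor.CoSeven.Mat
import Cfsg.Agent.Lib.Spor.CoSeven.Symp
import Cfsg.Agent.Lib.Classical.SymplecticCount

/-!
An element of order seven without fixed vectors turns the Leech lattice into a module over the cyclotomic
integers; its centraliser acts on the residues modulo one minus the element, preserving an alternating form.
-/

set_option autoImplicit false
set_option maxRecDepth 100000

namespace Cfsg.Agent.Spor.CoSeven

open Cfsg Cfsg.Agent.Spor.MonsterFusion
open Polynomial (aeval C X)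
open scoped Pointwise

local notation "Zv" => GolayPt → ℤ
set_option quotPrecheck false in
local notation "Lv" => ↥leechLattice

/-- automorphisms as endomorphisms -/
noncomputable def toEnd : ↥Co0 →* AddMonoid.End Lv where
  toFun g := AddMonoidHom.mk' (fun v => g • v) (co0_add g)
  map_one' := AddMonoidHom.ext fun v => one_smul _ v
  map_mul' g h := AddMonoidHom.ext fun v => mul_smul g h v

theorem toEnd_apply (g : ↥Co0) (v : Lv) : toEnd g v = g • v := rfl

theorem aeval_cmul (f : AddMonoid.End Lv) (n : ℤ) (p : Polynomial ℤ) (v : Lv) :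
    aeval f (C n * p) v = n • aeval f p v := by
  rw [← Polynomial.smul_eq_C_mul, map_zsmul]
  rfl

theorem toEnd_pow (g : ↥Co0) (k : ℕ) (v : Lv) : (toEnd g ^ k) v = g ^ k • v := by rw [← map_pow, toEnd_apply]

/-- endomorphisms agreeing on the unit vectors are equal -/
theorem end_ext {f f' : AddMonoid.End Lv} (h : ∀ i, f (e8 i) = f' (e8 i)) : f = f' := by
  refine AddMonoidHom.ext fun v => Subtype.ext ?_
  have h8 : (8 : ℤ) • v = ∑ i, (v : Zv) i • e8 i := Subtype.ext (by
    rw [AddSubgroup.coe_zsmul, AddSubgroup.val_finsetSum]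
    funext k
    simp [e8, Pi.single_apply, mul_comm])
  have e : (8 : ℤ) • f v = (8 : ℤ) • f' v := by
    rw [← map_zsmul, ← map_zsmul, h8, map_sum, map_sum]
    exact Finset.sum_congr rfl fun i _ => by rw [map_zsmul, map_zsmul, h]
  funext k
  have h1 := congrFun (congrArg Subtype.val e) k
  simp at h1
  exact h1

/-- the element has no fixed vectors and order seven -/
structure Free (g : ↥Co0) : Prop where
  phi : ∀ v : Lv, ∑ j ∈ Finset.range 7, g ^ j • v = 0

variable {g : ↥Co0}

theorem Free.phi' (hg : Free g) : aeval (toEnd g) (∑ j ∈ Finset.range 7, (X : Polynomial ℤ) ^ j) = 0 := by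
  rw [map_sum]
  refine AddMonoidHom.ext fun v => ?_
  simp only [map_pow, Polynomial.aeval_X]
  exact hg.phi v

theorem Free.eval_eq (hg : Free g) {p q r : Polynomial ℤ}
    (h : p = q + r * ∑ j ∈ Finset.range 7, X ^ j) : aeval (toEnd g) p = aeval (toEnd g) q := by
  rw [h, map_add, map_mul, hg.phi', mul_zero, add_zero]

theorem Free.pow_seven (hg : Free g) : g ^ 7 = 1 := by
  have h := hg.eval_eq (p := X ^ 7) (q := 1) (r := X - 1)
    (by simp only [Finset.sum_range_succ, Finset.sum_range_zero]; ring)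
  simp only [map_pow, map_one, Polynomial.aeval_X] at h
  exact co0_ext fun v => by rw [← toEnd_pow, h, one_smul]; rfl

/-- one minus the element -/
noncomputable def piE (g : ↥Co0) : AddMonoid.End Lv := aeval (toEnd g) (1 - X : Polynomial ℤ)

theorem piE_apply (g : ↥Co0) (v : Lv) : piE g v = v - g • v := by
  simp [piE]
  rfl

/-- the weights -/
noncomputable def psi : Polynomial ℤ := ∑ j ∈ Finset.range 7, C (j : ℤ) * X ^ j

theorem psi_pi : psi * (1 - X) = C (-7) + (1 - 6 * (X - 1)) * ∑ j ∈ Finset.range 7, (X : Polynomial ℤ) ^ j := by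
  simp only [psi, Finset.sum_range_succ, Finset.sum_range_zero, map_neg, map_ofNat, Nat.cast_ofNat, Nat.cast_zero,
    Nat.cast_one, map_zero, map_one]
  ring

/-- the form on the residues -/
noncomputable def bform (g : ↥Co0) (u v : Lv) : ZMod 7 :=
  ((dotInt (u : Zv) ((aeval (toEnd g) psi v : Lv) : Zv) : ℤ) : ZMod 7)

theorem bform_add (u v w : Lv) : bform g u (v + w) = bform g u v + bform g u w := by
  simp only [bform, map_add, AddSubgroup.coe_add, dotInt, Pi.add_apply, mul_add, Finset.sum_add_distrib,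
    Int.cast_add]

theorem bform_add_left (u v w : Lv) : bform g (u + v) w = bform g u w + bform g v w := by
  simp only [bform, AddSubgroup.coe_add, dotInt, Pi.add_apply, add_mul, Finset.sum_add_distrib, Int.cast_add]

theorem bform_smul (u v : Lv) (n : ℤ) : bform g u (n • v) = n * bform g u v := by
  simp only [bform, map_zsmul, AddSubgroup.coe_zsmul, dotInt_smul_right, Int.cast_mul]

theorem bform_smul_left (u v : Lv) (n : ℤ) : bform g (n • u) v = n * bform g u v := by
  simp only [bform, AddSubgroup.coe_zsmul, ← Int.cast_mul]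
  refine congrArg _ ?_
  simp only [dotInt, Finset.mul_sum, Pi.smul_apply, smul_eq_mul, mul_assoc]

theorem Free.bform_pi (hg : Free g) (u v : Lv) : bform g u (piE g v) = 0 := by
  have h := hg.eval_eq (p := psi * (1 - X)) (q := C (-7)) psi_pi
  rw [map_mul] at h
  have e : aeval (toEnd g) psi (piE g v) = (-7 : ℤ) • v := by
    show (aeval (toEnd g) psi * piE g) v = _
    rw [piE, h, Polynomial.aeval_C, eq_intCast, ← zsmul_one]
    rfl
  rw [bform, e, AddSubgroup.coe_zsmul, dotInt_smul_right, Int.cast_mul, show ((-7 : ℤ) : ZMod 7) = 0 from rfl,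
    zero_mul]

theorem Free.bform_pi_left (hg : Free g) (u v : Lv) : bform g (piE g u) v = 0 := by
  have h := hg.eval_eq (p := (1 - X ^ 6) * psi) (q := C 7 * X ^ 6)
    (r := -(1 - 6 * (X - 1)) * X ^ 6 + (1 - X) * psi) (by
      simp only [psi, Finset.sum_range_succ, Finset.sum_range_zero, map_ofNat, Nat.cast_ofNat, Nat.cast_zero,
        Nat.cast_one, map_zero, map_one]
      ring)
  have e : aeval (toEnd g) psi v - g ^ 6 • aeval (toEnd g) psi v = (7 : ℤ) • g ^ 6 • v := by
    have h2 := congrArg (fun f : AddMonoid.End Lv => f v) h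
    simp only [aeval_cmul] at h2
    simp only [map_mul, map_sub, map_one, map_pow, Polynomial.aeval_X] at h2
    rw [← toEnd_pow g 6 (aeval (toEnd g) psi v), ← toEnd_pow g 6 v]
    exact Eq.trans (by rfl) h2
  set x := aeval (toEnd g) psi v
  have e1 : dotInt ((g • u : Lv) : Zv) (x : Zv) = dotInt (u : Zv) ((g ^ 6 • x : Lv) : Zv) := by
    conv_lhs => rw [← one_smul ↥Co0 x, ← hg.pow_seven, pow_succ', mul_smul]
    exact co0_dot g _ _
  rw [bform, piE_apply, AddSubgroup.coe_sub]
  have e2 : dotInt ((u : Zv) - ((g • u : Lv) : Zv)) (x : Zv) =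
      dotInt (u : Zv) ((x - g ^ 6 • x : Lv) : Zv) := by
    rw [AddSubgroup.coe_sub]
    simp only [dotInt, Pi.sub_apply, sub_mul, mul_sub, Finset.sum_sub_distrib]
    exact congrArg _ e1
  rw [e2, e, AddSubgroup.coe_zsmul, dotInt_smul_right, Int.cast_mul, show ((7 : ℤ) : ZMod 7) = 0 from rfl,
    zero_mul]

/-- seven is a multiple of one minus the element -/
theorem Free.seven_pi (hg : Free g) (v : Lv) : ∃ w, (7 : ℤ) • v = piE g w := by
  have h := hg.eval_eq (p := (1 - X) * (6 + 5 * X + 4 * X ^ 2 + 3 * X ^ 3 + 2 * X ^ 4 + X ^ 5)) (q := C 7)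
    (r := -1) (by simp only [Finset.sum_range_succ, Finset.sum_range_zero, map_ofNat]; ring)
  refine ⟨aeval (toEnd g) (6 + 5 * X + 4 * X ^ 2 + 3 * X ^ 3 + 2 * X ^ 4 + X ^ 5 : Polynomial ℤ) v, ?_⟩
  rw [map_mul] at h
  show _ = (piE g * _) v
  rw [piE, h, Polynomial.aeval_C, eq_intCast, ← zsmul_one]
  rfl

/-- the sixth power of one minus the element is a multiple of seven -/
theorem Free.pi_six (hg : Free g) (v : Lv) : ∃ w, (piE g ^ 6) v = (7 : ℤ) • w := by
  have h := hg.eval_eq (p := (1 - X) ^ 6) (q := C 7 * (-X + 2 * X ^ 2 - 3 * X ^ 3 + 2 * X ^ 4 - X ^ 5))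
    (r := 1) (by simp only [Finset.sum_range_succ, Finset.sum_range_zero, map_ofNat]; ring)
  refine ⟨aeval (toEnd g) (-X + 2 * X ^ 2 - 3 * X ^ 3 + 2 * X ^ 4 - X ^ 5 : Polynomial ℤ) v, ?_⟩
  rw [piE, ← map_pow, h, map_mul, Polynomial.aeval_C, eq_intCast, ← zsmul_one]
  rfl

theorem piE_comm {h : ↥Co0} (hc : Commute h g) (v : Lv) : h • piE g v = piE g (h • v) := by
  rw [piE_apply, piE_apply, smul_sub_co0, ← mul_smul, hc.eq, mul_smul]
where
  smul_sub_co0 {h : ↥Co0} {u v : Lv} : h • (u - v) = h • u - h • v := map_sub (toEnd h) u v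

theorem piE_pow_comm {h : ↥Co0} (hc : Commute h g) : ∀ (n : ℕ) (v : Lv), h • (piE g ^ n) v = (piE g ^ n) (h • v)
  | 0, v => rfl
  | n + 1, v => by
    rw [pow_succ']
    show h • piE g ((piE g ^ n) v) = piE g ((piE g ^ n) (h • v))
    rw [piE_comm hc, piE_pow_comm hc n v]

/-- an element of order prime to seven trivial on the residues is trivial -/
theorem Free.trivial_of_prime (hg : Free g) {h : ↥Co0} (hc : Commute h g) {p : ℕ} (hp : p.Prime) (hp7 : p ≠ 7)
    (hpow : h ^ p = 1) (htriv : ∀ v : Lv, ∃ w, h • v - v = piE g w) : h = 1 := by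
  have step : ∀ n : ℕ, ∀ v : Lv, ∃ w, h • v - v = (piE g ^ (n + 1)) w := by
    intro n
    induction n with
    | zero => simpa using htriv
    | succ n ih =>
      intro v
      obtain ⟨w, hw⟩ := ih v
      have hm : ∀ m : ℕ, ∃ y, h ^ m • v - v - m • (h • v - v) = (piE g ^ (n + 2)) y := by
        intro m
        induction m with
        | zero => exact ⟨0, by simp⟩
        | succ m ihm =>
          obtain ⟨y, hy⟩ := ihm
          obtain ⟨z, hz⟩ := htriv w
          refine ⟨h • y + m • z, ?_⟩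
          have e1 : h ^ (m + 1) • v - v - (m + 1) • (h • v - v) =
              h • (h ^ m • v - v - m • (h • v - v)) + m • (h • (h • v - v) - (h • v - v)) := by
            rw [pow_succ', mul_smul]
            show _ = toEnd h (h ^ m • v - v - m • (h • v - v)) + _
            rw [map_sub, map_sub, map_nsmul, toEnd_apply, toEnd_apply, toEnd_apply]
            simp only [smul_sub, succ_nsmul]
            abel
          rw [e1, hy, hw, piE_pow_comm hc, piE_pow_comm hc]
          rw [map_add, map_nsmul, ← map_sub, hz]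
          congr 2
      obtain ⟨y, hy⟩ := hm p
      rw [hpow, one_smul, sub_self, zero_sub] at hy
      obtain ⟨s, hs⟩ := hg.seven_pi w
      obtain ⟨a, b, hab⟩ := ((Nat.coprime_primes hp (by norm_num : Nat.Prime 7)).2 hp7).isCoprime
      refine ⟨-(a • y) + b • s, ?_⟩
      have h7 : (7 : ℤ) • (h • v - v) = (piE g ^ (n + 2)) s := by
        rw [hw, ← map_zsmul, hs, pow_succ (piE g) (n + 1)]; rfl
      calc h • v - v = (a * (p : ℤ) + b * ((7 : ℕ) : ℤ)) • (h • v - v) := by rw [hab, one_smul]
        _ = a • ((p : ℤ) • (h • v - v)) + b • ((7 : ℤ) • (h • v - v)) := by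
          rw [add_smul, mul_smul, mul_smul]; rfl
        _ = (piE g ^ (n + 2)) (-(a • y) + b • s) := by
          rw [h7, map_add, map_neg, map_zsmul, map_zsmul, ← hy, natCast_zsmul, smul_neg, neg_neg]
  refine co0_ext fun v => ?_
  rw [one_smul]
  have hdiv : ∀ k : ℕ, ∀ x : Lv, ∃ w, (piE g ^ (6 * k)) x = ((7 : ℤ) ^ k) • w := by
    intro k
    induction k with
    | zero => exact fun x => ⟨x, by simp⟩
    | succ k ih =>
      intro x
      obtain ⟨w, hw⟩ := hg.pi_six x
      obtain ⟨y, hy⟩ := ih w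
      refine ⟨y, ?_⟩
      rw [show 6 * (k + 1) = 6 * k + 6 from rfl, pow_add]
      show (piE g ^ (6 * k)) ((piE g ^ 6) x) = _
      rw [hw, map_zsmul, hy, ← mul_smul, ← pow_succ']
  funext i
  by_contra hne
  set d := ((h • v : Lv) : Zv) i - (v : Zv) i
  obtain ⟨w, hw⟩ := step (6 * (d.natAbs + 1) - 1) v
  obtain ⟨y, hy⟩ := hdiv (d.natAbs + 1) w
  rw [show 6 * (d.natAbs + 1) - 1 + 1 = 6 * (d.natAbs + 1) by omega, hy] at hw
  have e := congrArg (fun x : Lv => ((x : Zv) i)) hw
  simp only [AddSubgroup.coe_sub, Pi.sub_apply, AddSubgroup.coe_zsmul, Pi.smul_apply, smul_eq_mul] at e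
  have hd : d ≠ 0 := sub_ne_zero.2 hne
  have h1 : ((7 : ℤ) ^ (d.natAbs + 1)).natAbs ≤ d.natAbs :=
    Nat.le_of_dvd (by omega) (Int.natAbs_dvd_natAbs.2 ⟨_, e⟩)
  rw [Int.natAbs_pow] at h1
  have h2 := Nat.lt_pow_self (show 1 < 7 by norm_num) (n := d.natAbs + 1)
  simp only [Int.reduceAbs] at h1
  omega

end Cfsg.Agent.Spor.CoSeven
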