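import Cfsg.Agent.Lib.Spor.CoSeven.Checks
import Cfsg.Agent.Lib.Spor.CoSeven.ChecksGood
import Cfsg.Agent.Lib.Spor.CoSeven.Ring

/-!
The centraliser of the fixed point free element of order seven maps into the symplectic group of dimension
four over the field with seven elements, with kernel of seven-power order.
-/

set_option autoImplicit false
set_option maxRecDepth 100000

namespace Cfsg.Agent.Spor.CoSeven

open Cfsg Cfsg.Agent.Spor.MonsterFusion
open scoped Pointwise

local notation "Zv" => GolayPt → ℤ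
set_option quotPrecheck false in
local notation "Lv" => ↥leechLattice
local notation "F" => ZMod 7
local notation "ι" => Fin 2 ⊕ Fin 2

/-- the element of order seven without fixed vectors -/
noncomputable def gam : ↥Co0 := (el_exists good_gamM).choose

theorem el_gam : El gam gamM := (el_exists good_gamM).choose_spec

theorem el_pel : El Co1Seven.pel pelM :=
  ⟨pel_shape, fun i => funext fun p => by
    rw [Co1Seven.pel_e8, pel_rows]; simp [e8, Pi.single_apply]⟩

theorem end_sum_apply (s : Finset ℕ) (f : ℕ → AddMonoid.End Lv) (v : Lv) : (∑ j ∈ s, f j) v = ∑ j ∈ s, f j v :=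
  map_sum (AddMonoidHom.mk' (fun h : AddMonoid.End Lv => h v) fun _ _ => rfl) f s

theorem el_pow {g : ↥Co0} {A : List (List ℤ)} (h : El g A) : ∀ k : ℕ, El (g ^ k) (pwL A k)
  | 0 => by rw [pow_zero]; exact El.one
  | k + 1 => by rw [pow_succ]; exact (el_pow h k).mul h

theorem row_addL {A B : List (List ℤ)} (hA : shape A = true) (hB : shape B = true) (i k : GolayPt) :
    row (addL A B) i k = row A i k + row B i k ∧ shape (addL A B) = true := by
  have ha := shape_row hA i
  have hb := shape_row hB i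
  simp only [shape, Bool.and_eq_true, beq_iff_eq, List.all_eq_true] at hA hB
  have hia : idx i < A.length := hA.1 ▸ idx_lt i
  have hib : idx i < B.length := hB.1 ▸ idx_lt i
  refine ⟨?_, ?_⟩
  · have hi : idx i < (addL A B).length := by simp [addL, hA.1, hB.1, idx_lt]
    simp only [row, vecOf, List.getD_eq_getElem _ _ hi, List.getD_eq_getElem _ _ hia, List.getD_eq_getElem _ _ hib]
      at ha hb ⊢
    simp only [addL, List.getElem_zipWith]
    rw [List.getD_eq_getElem _ _ (by simp [ha, hb, idx_lt]), List.getD_eq_getElem _ _ (ha ▸ idx_lt k),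
      List.getD_eq_getElem _ _ (hb ▸ idx_lt k), List.getElem_zipWith]
  · simp only [shape, Bool.and_eq_true, beq_iff_eq, List.all_eq_true]
    refine ⟨by simp [addL, hA.1, hB.1], fun r hr => ?_⟩
    obtain ⟨n, hn, rfl⟩ := List.getElem_of_mem hr
    simp only [addL, List.getElem_zipWith, List.length_zipWith]
    rw [hA.2 _ (List.getElem_mem _), hB.2 _ (List.getElem_mem _)]
    rfl

theorem row_phiL {g : ↥Co0} {A : List (List ℤ)} (h : El g A) : ∀ n : ℕ, shape (phiL A n) = true ∧
    ∀ i k, row (phiL A n) i k = ((∑ j ∈ Finset.range n, g ^ j • e8 i : Lv) : Zv) k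
  | 0 => ⟨(show shape zeroL = true by decide +kernel), fun i k => by
      have : ∀ i k : GolayPt, row zeroL i k = 0 := by decide +kernel
      simp [phiL, this]⟩
  | n + 1 => by
    obtain ⟨hs, hv⟩ := row_phiL h n
    refine ⟨(row_addL hs (el_pow h n).shp none none).2, fun i k => ?_⟩
    rw [phiL, (row_addL hs (el_pow h n).shp i k).1, hv, Finset.sum_range_succ, AddSubgroup.coe_add, Pi.add_apply,
      (el_pow h n).val]

theorem free_of {g : ↥Co0} {A : List (List ℤ)} (h : El g A) (hphi : phiL A 7 = zeroL) : Free g := by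
  refine ⟨fun v => ?_⟩
  have e : (∑ j ∈ Finset.range 7, toEnd g ^ j) = 0 := end_ext fun i => by
    rw [end_sum_apply]
    simp only [toEnd_pow]
    refine Subtype.ext (funext fun k => ?_)
    rw [← (row_phiL h 7).2, hphi]
    have : ∀ i k : GolayPt, row zeroL i k = 0 := by decide +kernel
    exact this i k
  have := congrArg (fun f : AddMonoid.End Lv => f v) e
  simp only [end_sum_apply, toEnd_pow] at this
  exact this

theorem gam_free : Free gam := free_of el_gam gp_phi

theorem gam_pow_seven : gam ^ 7 = 1 := gam_free.pow_seven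

theorem gam_pel_comm : Commute gam Co1Seven.pel := by
  show gam * Co1Seven.pel = Co1Seven.pel * gam
  exact (el_gam.mul el_pel).eq (gam_pel ▸ el_pel.mul el_gam)

theorem gam_ne : gam ≠ 1 := fun e => by
  have h := gam_free.phi (e8 none)
  rw [e] at h
  simp only [one_pow, one_smul, Finset.sum_const, Finset.card_range] at h
  have h1 := congrFun (congrArg Subtype.val h) none
  simp [e8] at h1

/-- a generator of the centraliser -/
noncomputable def xel (i : Fin 5) : ↥Co0 := (el_exists (A := xM i) (by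
  fin_cases i
  exacts [good_xM0, good_xM1, good_xM2, good_xM3, good_xM4])).choose

theorem el_xel (i : Fin 5) : El (xel i) (xM i) := (el_exists (A := xM i) (by
  fin_cases i
  exacts [good_xM0, good_xM1, good_xM2, good_xM3, good_xM4])).choose_spec

theorem xel_comm (i : Fin 5) : Commute (xel i) gam := by
  show xel i * gam = gam * xel i
  exact ((el_xel i).mul el_gam).eq ((gam_x i).symm ▸ el_gam.mul (el_xel i))

theorem xel_cube (i : Fin 5) : xel i ^ 3 = 1 := (el_pow (el_xel i) 3).eq (x_cube i ▸ El.one)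

theorem xel_pair {i j : Fin 5} (h : i ≠ j) {n : ↥Co0} (hn : ∀ v : Lv, ((n • v : Lv) : Zv) = -(v : Zv)) :
    (xel i * xel j) ^ 2 = n := (el_pow ((el_xel i).mul (el_xel j)) 2).eq (x_pair i j h ▸ El.neg hn)

/-! ### the residues -/

/-- positions of the basis -/
def pos : ι → ℕ := Sum.elim (fun a => a.val) fun a => 2 + a.val

theorem pos_lt : ∀ i, pos i < 4 := by decide

/-- the basis -/
noncomputable def bb (i : ι) : Lv := ⟨vecOf (resB.getD (pos i) []), leechCheck_mem (resB_ok _ (pos_lt i)).1⟩

/-- the form -/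
noncomputable def bf (u v : Lv) : F := bform gam u v

theorem bb_gram (i k : ι) : bf (bb i) (bb k) = Matrix.J (Fin 2) F i k := by
  have hl : ∀ l, (resB.getD (pos l) []).length = 24 := fun l => (resB_ok _ (pos_lt l)).2
  have h1 : dotInt ((bb i : Lv) : Zv) ((Polynomial.aeval (toEnd gam) psi (bb k) : Lv) : Zv) =
      gram (pos i) (pos k) := by
    have e : Polynomial.aeval (toEnd gam) psi (bb k) = ∑ j ∈ Finset.range 7, (j : ℤ) • (gam ^ j • bb k) := by
      simp only [psi, map_sum, end_sum_apply]
      exact Finset.sum_congr rfl fun j _ => by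
        rw [aeval_cmul, map_pow, Polynomial.aeval_X, toEnd_pow]
    rw [e, AddSubgroup.val_finsetSum]
    have hd : ∀ f : ℕ → Zv, dotInt ((bb i : Lv) : Zv) (∑ j ∈ Finset.range 7, f j) =
        ∑ j ∈ Finset.range 7, dotInt ((bb i : Lv) : Zv) (f j) := fun f => by
      simp only [dotInt, Finset.sum_apply, Finset.mul_sum]
      exact Finset.sum_comm
    rw [hd]
    simp only [AddSubgroup.coe_zsmul, dotInt_smul_right]
    rw [gram, List.sum_map_eq_sum_range_aux]
    refine Finset.sum_congr rfl fun j hj => congrArg _ ?_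
    rw [Finset.mem_range] at hj
    have hE := el_pow el_gam j
    rw [gpN_eq j hj] at hE
    have hT := shape_trL hE.shp
    have hTl : (trL (gpN j)).length = 24 := by simp [trL]
    rw [dotL_vec (hl i) (by simp [hTl])]
    refine Finset.sum_congr rfl fun p _ => congrArg _ ?_
    rw [hE.apply]
    have hp : idx p < ((trL (gpN j)).map fun c => dotL (resB.getD (pos k) []) c / 8).length := by
      simp [hTl, idx_lt]
    rw [vecOf, List.getD_eq_getElem _ _ hp, List.getElem_map]
    have hp' : idx p < (trL (gpN j)).length := hTl ▸ idx_lt p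
    rw [← List.getD_eq_getElem (trL (gpN j)) [] hp', dotL_vec (hl k) (shape_row hT p)]
    exact congrArg (· / 8) (Finset.sum_congr rfl fun q _ => congrArg _ (row_trL hE.shp p q).symm)
  rw [bf, bform, h1]
  have h2 := gram_ok ⟨pos i, pos_lt i⟩ ⟨pos k, pos_lt k⟩
  have h3 : ∀ i k : ι, (((gramJ.getD (pos i) []).getD (pos k) 0 : ℤ) : F) = Matrix.J (Fin 2) F i k := by
    intro i k
    rcases i with i | i <;> rcases k with k | k <;> fin_cases i <;> fin_cases k <;>
      (simp [gramJ, pos, Matrix.J]; try decide)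
  rw [← h3, ← h2, ← ZMod.intCast_mod (gram (pos i) (pos k)) 7]
  rfl
where
  List.sum_map_eq_sum_range_aux {f : ℕ → ℤ} {n : ℕ} :
      ((List.range n).map f).sum = ∑ j ∈ Finset.range n, f j := by
    induction n with
    | zero => rfl
    | succ n ih => rw [List.range_succ, List.map_append, List.sum_append, ih, Finset.sum_range_succ]; simp

/-- values against the basis -/
noncomputable def vals (v : Lv) : ι → F := fun i => bf (bb i) v

/-- coordinates -/
noncomputable def crd (v : Lv) : ι → F := -(Matrix.J (Fin 2) F).mulVec (vals v)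

theorem crd_add (u v : Lv) : crd (u + v) = crd u + crd v := by
  have : vals (u + v) = vals u + vals v := funext fun i => bform_add _ _ _
  rw [crd, crd, crd, this, Matrix.mulVec_add, neg_add]

/-- combinations of the basis -/
noncomputable def cmb (n : ι → ℤ) : Lv := ∑ i, n i • bb i

theorem decomp (v : Lv) : ∃ n : ι → ℤ, ∃ u : Lv, v = cmb n + piE gam u := by
  refine (gens_induction (P := fun x => ∀ hx : x ∈ leechLattice, ∃ n : ι → ℤ, ∃ u : Lv,
    (⟨x, hx⟩ : Lv) = cmb n + piE gam u) ?_ ?_ ?_ ?_ v.2) v.2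
  · exact fun _ => ⟨0, 0, by simp [cmb, map_zero]⟩
  · rintro x y hx hy h h' -
    obtain ⟨n, u, e⟩ := h hx
    obtain ⟨m, w, e'⟩ := h' hy
    refine ⟨n + m, u + w, ?_⟩
    rw [show (⟨x + y, _⟩ : Lv) = ⟨x, hx⟩ + ⟨y, hy⟩ from rfl, e, e', map_add]
    simp only [cmb, Pi.add_apply, add_smul, Finset.sum_add_distrib]
    abel
  · rintro x hx h -
    obtain ⟨n, u, e⟩ := h hx
    refine ⟨-n, -u, ?_⟩
    rw [show (⟨-x, _⟩ : Lv) = -⟨x, hx⟩ from rfl, e, map_neg]
    simp only [cmb, Pi.neg_apply, neg_smul, Finset.sum_neg_distrib]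
    abel
  · intro y hy _ hx
    obtain ⟨j, hj, rfl⟩ := List.getElem_of_mem hy
    have hw := wit_ok
    have hj' : j < resW.length := hw.1 ▸ hj
    have h1 := List.all_eq_true.1 hw.2 _ (List.getElem_mem (l := List.zipWith witOK gensL resW) (n := j)
      (by simp [List.length_zipWith]; omega))
    rw [List.getElem_zipWith] at h1
    simp only [witOK, Bool.and_eq_true, beq_iff_eq, List.all_eq_true, List.mem_range] at h1
    obtain ⟨⟨⟨hu, -⟩, hul⟩, heq⟩ := h1
    refine ⟨fun i => (resW[j]).1.getD (pos i) 0, ⟨vecOf (resW[j]).2, leechCheck_mem hu⟩,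
      Subtype.ext (funext fun k => ?_)⟩
    have hk := heq _ (idx_lt k)
    have hT := shape_trL el_gam.shp
    rw [dotL_vec hul (shape_row hT k)] at hk
    have hg := el_gam.apply ⟨vecOf (resW[j]).2, leechCheck_mem hu⟩ k
    have hg' : ∑ p, vecOf (resW[j]).2 p * row gamM p k =
        ∑ p, vecOf (resW[j]).2 p * vecOf ((trL gamM).getD (idx k) []) p :=
      Finset.sum_congr rfl fun p _ => congrArg _ (row_trL el_gam.shp k p).symm
    rw [AddSubgroup.coe_add, Pi.add_apply, piE_apply, AddSubgroup.coe_sub, Pi.sub_apply, hg]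
    show vecOf gensL[j] k = _ + (vecOf (resW[j]).2 k - (∑ p, vecOf (resW[j]).2 p * row gamM p k) / 8)
    rw [hg']
    have hc : ((cmb fun i => (resW[j]).1.getD (pos i) 0 : Lv) : Zv) k =
        ((List.range 4).map fun i => (resW[j]).1.getD i 0 * (resB.getD i []).getD (idx k) 0).sum := by
      rw [cmb, AddSubgroup.val_finsetSum, Finset.sum_apply, Fintype.sum_sum_type]
      simp [List.range_succ, Fin.sum_univ_two, pos, bb, vecOf]
      ring
    rw [hc]
    change vecOf gensL[j] k = _
    simp only [vecOf] at hk ⊢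
    omega

theorem crd_cmb (n : ι → ℤ) (u : Lv) : crd (cmb n + piE gam u) = fun i => ((n i : ℤ) : F) := by
  have h1 : vals (cmb n + piE gam u) = (Matrix.J (Fin 2) F).mulVec (fun i => ((n i : ℤ) : F)) := funext fun i => by
    rw [vals, bf, bform_add, gam_free.bform_pi, add_zero, Matrix.mulVec, dotProduct]
    let φ : Lv →+ F := AddMonoidHom.mk' (fun v => bform gam (bb i) v) (bform_add _)
    show φ (cmb n) = _
    rw [cmb, map_sum]
    refine Finset.sum_congr rfl fun k _ => ?_
    show bform gam (bb i) (n k • bb k) = _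
    rw [bform_smul, ← bb_gram, bf, mul_comm]
  rw [crd, h1, Matrix.mulVec_mulVec, Matrix.J_squared, Matrix.neg_mulVec, Matrix.one_mulVec, neg_neg]

theorem crd_pi (u : Lv) : crd (piE gam u) = 0 := by
  have h := crd_cmb 0 u
  have : cmb 0 = 0 := by simp [cmb]
  rw [this, zero_add] at h
  exact h.trans (funext fun i => Int.cast_zero)

theorem bf_crd (u v : Lv) : bf u v = dotProduct (crd u) ((Matrix.J (Fin 2) F).mulVec (crd v)) := by
  obtain ⟨n, a, rfl⟩ := decomp u
  obtain ⟨m, b, rfl⟩ := decomp v
  rw [crd_cmb, crd_cmb]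
  have h1 : bf (cmb n + piE gam a) (cmb m + piE gam b) = bform gam (cmb n) (cmb m) := by
    rw [bf, bform_add_left, gam_free.bform_pi_left, add_zero, bform_add, gam_free.bform_pi, add_zero]
  let φ : Lv →+ F := AddMonoidHom.mk' (fun x => bform gam x (cmb m)) fun x y => bform_add_left x y _
  rw [h1, show bform gam (cmb n) (cmb m) = φ (cmb n) from rfl, cmb, map_sum, dotProduct]
  refine Finset.sum_congr rfl fun i _ => ?_
  show bform gam (n i • bb i) (cmb m) = _
  rw [bform_smul_left]
  refine congrArg _ ?_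
  let ψ : Lv →+ F := AddMonoidHom.mk' (fun x => bform gam (bb i) x) (bform_add _)
  rw [show bform gam (bb i) (cmb m) = ψ (cmb m) from rfl, cmb, map_sum, Matrix.mulVec, dotProduct]
  refine Finset.sum_congr rfl fun k _ => ?_
  show bform gam (bb i) (m k • bb k) = _
  rw [bform_smul, ← bb_gram, bf, mul_comm]

/-- the centraliser -/
abbrev C0 : Subgroup ↥Co0 := Subgroup.centralizer ({gam} : Set ↥Co0)

theorem C0_comm (g : C0) : Commute (g : ↥Co0) gam := Subgroup.mem_centralizer_singleton_iff.1 g.2

/-- its matrix -/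
noncomputable def mtx (g : C0) : Matrix ι ι F := Matrix.of fun i k => crd ((g : ↥Co0) • bb k) i

theorem crd_smul (g : C0) (v : Lv) : crd ((g : ↥Co0) • v) = (mtx g).mulVec (crd v) := by
  obtain ⟨n, u, rfl⟩ := decomp v
  rw [co0_add, piE_comm (C0_comm g), crd_add, crd_pi, add_zero, crd_cmb]
  let φ : Lv →+ (ι → F) := AddMonoidHom.mk' (fun v => crd ((g : ↥Co0) • v)) fun a b => by rw [co0_add, crd_add]
  show φ (cmb n) = _
  rw [cmb, map_sum]
  funext i
  rw [Finset.sum_apply, Matrix.mulVec, dotProduct]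
  refine Finset.sum_congr rfl fun k _ => ?_
  rw [map_zsmul, Pi.smul_apply, zsmul_eq_mul, mul_comm]
  rfl

theorem mtx_one : mtx 1 = 1 := by
  ext i k
  show crd ((1 : ↥Co0) • bb k) i = _
  have e : bb k = cmb (Pi.single k 1) + piE gam 0 := by
    rw [map_zero, add_zero, cmb, Finset.sum_eq_single k (fun j _ hj => by rw [Pi.single_eq_of_ne hj, zero_smul])
      (by simp), Pi.single_eq_same, one_smul]
  rw [one_smul, e, crd_cmb]
  rcases eq_or_ne i k with rfl | h <;> simp [*]

theorem mtx_mul (g h : C0) : mtx (g * h) = mtx g * mtx h := by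
  ext i k
  show crd (((g : ↥Co0) * (h : ↥Co0)) • bb k) i = _
  rw [mul_smul, crd_smul]
  rfl

theorem mtx_symp (g : C0) : mtx g ∈ Matrix.symplecticGroup (Fin 2) F := by
  rw [SymplecticGroup.mem_iff']
  ext i k
  have h1 : bf ((g : ↥Co0) • bb i) ((g : ↥Co0) • bb k) = bf (bb i) (bb k) := by
    simp only [bf, bform]
    refine congrArg _ ?_
    have hc : Commute (toEnd (g : ↥Co0)) (toEnd gam) := (C0_comm g).map toEnd
    have hp : Commute (toEnd (g : ↥Co0)) (Polynomial.aeval (toEnd gam) psi) := by
      refine Polynomial.induction_on' psi (fun p q hp hq => ?_) fun n a => ?_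
      · rw [map_add]; exact hp.add_right hq
      · rw [Polynomial.aeval_monomial]
        exact (Algebra.commute_algebraMap_right _ _).mul_right (hc.pow_right n)
    have e := congrArg (fun f : AddMonoid.End Lv => f (bb k)) hp.eq
    rw [show Polynomial.aeval (toEnd gam) psi ((g : ↥Co0) • bb k) =
      (g : ↥Co0) • Polynomial.aeval (toEnd gam) psi (bb k) from e.symm, co0_dot]
  rw [bb_gram] at h1
  rw [← h1, bf_crd, Matrix.mul_assoc, Matrix.mul_apply, dotProduct]
  rfl

/-- the representation -/
noncomputable def rho : C0 →* Matrix.symplecticGroup (Fin 2) F where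
  toFun g := ⟨mtx g, mtx_symp g⟩
  map_one' := Subtype.ext mtx_one
  map_mul' g h := Subtype.ext (mtx_mul g h)

theorem rho_ker_prime (g : C0) (h : rho g = 1) {p : ℕ} (hp : p.Prime) (hp7 : p ≠ 7) (hpow : g ^ p = 1) : g = 1 := by
  refine Subtype.ext (gam_free.trivial_of_prime (C0_comm g) hp hp7
    (by rw [← SubgroupClass.coe_pow, hpow]; rfl) fun v => ?_)
  have e : crd ((g : ↥Co0) • v - v) = 0 := by
    have : crd ((g : ↥Co0) • v) = crd v := by
      rw [crd_smul, show mtx g = 1 from congrArg Subtype.val h, Matrix.one_mulVec]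
    have h2 := crd_add ((g : ↥Co0) • v - v) v
    rw [sub_add_cancel, this] at h2
    exact add_eq_right.1 h2.symm
  obtain ⟨n, u, hd⟩ := decomp ((g : ↥Co0) • v - v)
  rw [hd, crd_cmb] at e
  have hdiv : ∀ i, ∃ w, n i • bb i = piE gam w := fun i => by
    obtain ⟨m, hm⟩ := (ZMod.intCast_zmod_eq_zero_iff_dvd (n i) 7).1 (congrFun e i)
    obtain ⟨w, hw⟩ := gam_free.seven_pi (m • bb i)
    exact ⟨w, by rw [hm, ← hw, mul_smul]; rfl⟩
  choose w hw using hdiv
  exact ⟨∑ i, w i + u, by rw [hd, map_add, map_sum, cmb, Finset.sum_congr rfl fun i _ => hw i]⟩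

end Cfsg.Agent.Spor.CoSeven
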