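import Cfsg.Agent.Lib.Spor.CoSeven.Cent
import Cfsg.Agent.Lib.Small.BoundedPres.Alt

/-!
The centraliser in the first Conway group of the fixed point free element of order seven is the product of
the group it generates and an alternating group of degree seven.
-/

set_option autoImplicit false
set_option maxRecDepth 100000
set_option linter.style.haveILetI false

namespace Cfsg.Agent.Spor.CoSeven

open Cfsg Cfsg.Agent.Spor.MonsterFusion
open Co1Seven (pr pel beta)
open CoLocal (lift_rel)
open scoped Pointwise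

local notation "Zv" => GolayPt → ℤ
set_option quotPrecheck false in
local notation "Lv" => ↥leechLattice
local notation "Co1" => Cfsg.Spor.Co1
set_option quotPrecheck false in
local notation "A7" => ↥(alternatingGroup (Fin 7))

/-- the order is prime -/
instance threePrime : Fact (Nat.Prime 3) := ⟨Nat.prime_three⟩

theorem pr_x_cube (i : Fin 5) : pr (xel i) ^ 3 = 1 := by rw [← map_pow, xel_cube, map_one]

theorem pr_x_pair (i j : Fin 5) (h : i ≠ j) : (pr (xel i) * pr (xel j)) ^ 2 = 1 := by
  obtain ⟨n, hn⟩ := negation_exists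
  rw [← map_mul, ← map_pow, xel_pair h hn]
  exact (QuotientGroup.eq_one_iff _).2 (negation_mem_center hn)

theorem theta_exists : ∃ θ : A7 →* Co1, ∀ i, θ (Small.BoundedPres.gcyc 5 i) = pr (xel i) :=
  Small.BoundedPres.carmichael_hom 5 (by norm_num) (fun i => pr (xel i)) pr_x_cube fun i j h => pr_x_pair i j h

/-- the alternating group -/
noncomputable def theta : A7 →* Co1 := theta_exists.choose

theorem theta_gcyc (i : Fin 5) : theta (Small.BoundedPres.gcyc 5 i) = pr (xel i) := theta_exists.choose_spec i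

theorem xel_zero_ne : pr (xel 0) ≠ 1 := fun e => by
  have h : xel 0 = 1 := lift_rel (p := 3) rfl (by rw [e, map_one]) (xel_cube 0) (one_pow 3)
  have h1 := El.one.val
  rw [← h] at h1
  have h2 : ∀ i, row (xM 0) i = row oneL i := fun i => ((el_xel 0).val i).symm.trans (h1 i)
  have h3 : ∃ i k : GolayPt, row (xM 0) i k ≠ row oneL i k := by decide +kernel
  obtain ⟨i, k, hik⟩ := h3
  exact hik (congrFun (h2 i) k)

theorem simple_A7 : IsSimpleGroup A7 := alternatingGroup.isSimpleGroup (by simp)

theorem theta_inj : Function.Injective theta := by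
  haveI := simple_A7
  rcases IsSimpleGroup.eq_bot_or_eq_top_of_normal theta.ker theta.normal_ker with e | e
  · exact (MonoidHom.ker_eq_bot_iff theta).1 e
  · exact absurd ((theta_gcyc 0).symm.trans (MonoidHom.mem_ker.1 (e ▸ Subgroup.mem_top _))) xel_zero_ne

theorem theta_gam (k : A7) : Commute gam1 (theta k) := by
  have h : ⊤ ≤ C1.comap theta := by
    rw [← Small.BoundedPres.gcyc_top 5, Subgroup.closure_le]
    rintro _ ⟨i, rfl⟩
    show theta _ ∈ C1
    rw [theta_gcyc]
    exact Subgroup.mem_centralizer_singleton_iff.2 ((xel_comm i).map pr).eq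
  exact (Subgroup.mem_centralizer_singleton_iff.1 (h (Subgroup.mem_top k))).symm

theorem gamPow_comm (x : Subgroup.zpowers gam1) (k : A7) : Commute (x : Co1) (theta k) := by
  obtain ⟨n, hn⟩ := Subgroup.mem_zpowers_iff.1 x.2
  rw [← hn]
  exact (theta_gam k).zpow_left n

/-- the product -/
noncomputable def dmap : Subgroup.zpowers gam1 × A7 →* Co1 :=
  MonoidHom.noncommCoprod (Subgroup.zpowers gam1).subtype theta gamPow_comm

theorem dmap_apply (x : Subgroup.zpowers gam1) (k : A7) : dmap (x, k) = (x : Co1) * theta k :=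
  MonoidHom.noncommCoprod_apply _ _ _ _

theorem dmap_mem (p : Subgroup.zpowers gam1 × A7) : dmap p ∈ C1 := by
  obtain ⟨⟨x, hx⟩, k⟩ := p
  obtain ⟨n, rfl⟩ := Subgroup.mem_zpowers_iff.1 hx
  rw [dmap_apply]
  exact Subgroup.mem_centralizer_singleton_iff.2
    (((Commute.refl gam1).zpow_left n).mul_left (theta_gam k).symm).eq

theorem center_A7 (k : A7) (h : ∀ l, k * l = l * k) : k = 1 := by
  have : k ∈ Subgroup.center A7 := Subgroup.mem_center_iff.2 fun l => (h l).symm
  rwa [alternatingGroup.center_eq_bot (by simp), Subgroup.mem_bot] at this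

theorem dmap_inj : Function.Injective dmap := by
  rw [injective_iff_map_eq_one]
  rintro ⟨x, k⟩ h
  rw [dmap_apply] at h
  have hk : k = 1 := center_A7 k fun l => theta_inj (by
    rw [map_mul, map_mul, eq_inv_of_mul_eq_one_right h]
    exact ((gamPow_comm x l).inv_left).eq)
  rw [hk, map_one, mul_one] at h
  rw [hk]
  exact Prod.ext (Subtype.ext h) rfl

/-- the product inside the centraliser -/
noncomputable def dmapC : Subgroup.zpowers gam1 × A7 →* ↥C1 := dmap.codRestrict C1 dmap_mem

theorem dmapC_inj : Function.Injective dmapC := fun p q h => dmap_inj (congrArg Subtype.val h)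

/-- the known part -/
noncomputable def DC : Subgroup ↥C1 := dmapC.range

theorem card_A7 : Nat.card A7 = 2520 := by
  rw [nat_card_alternatingGroup, Nat.card_fin]
  rfl

theorem card_DC : Nat.card DC = 17640 := by
  rw [DC, ← Nat.card_congr (MonoidHom.ofInjective dmapC_inj).toEquiv, Nat.card_prod, Nat.card_zpowers,
    orderOf_gam1, card_A7]

/-- the index -/
noncomputable def kidx : ℕ := DC.index

theorem card_C1 : Nat.card ↥C1 = 17640 * kidx := by
  rw [← DC.card_mul_index, card_DC, kidx]

/-- the projection -/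
noncomputable def proj : ↥C0 →* ↥C1 := (pr.comp C0.subtype).codRestrict C1 fun g =>
  Subgroup.mem_centralizer_singleton_iff.2 ((C0_comm g).map pr).eq

theorem lift_mem {g : ↥Co0} (h : pr g ∈ C1) : g ∈ C0 := by
  refine Subgroup.mem_centralizer_singleton_iff.2 (mul_inv_eq_iff_eq_mul.1 ?_)
  refine lift_rel (p := 7) rfl ?_ (by rw [conj_pow, gam_pow_seven]; group) gam_pow_seven
  rw [map_mul, map_mul, map_inv]
  exact mul_inv_eq_iff_eq_mul.2 (Subgroup.mem_centralizer_singleton_iff.1 h)

theorem proj_surj : Function.Surjective proj := fun a => by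
  obtain ⟨g, hg⟩ := QuotientGroup.mk'_surjective (Subgroup.center ↥Co0) (a : Co1)
  exact ⟨⟨g, lift_mem (hg ▸ a.2)⟩, Subtype.ext hg⟩

theorem card_C0 : Nat.card ↥C0 = 2 * (17640 * kidx) := by
  haveI := co0_finite
  rw [Subgroup.card_eq_card_quotient_mul_card_subgroup proj.ker,
    Nat.card_congr (QuotientGroup.quotientKerEquivOfSurjective proj proj_surj).toEquiv, card_C1, mul_comm]
  congr 1
  obtain ⟨n, hn⟩ := negation_exists
  have hnc := negation_mem_center hn
  have hnm : n ∈ C0 := Subgroup.mem_centralizer_singleton_iff.2 (Subgroup.mem_center_iff.1 hnc gam).symm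
  have hnk : (⟨n, hnm⟩ : ↥C0) ∈ proj.ker := Subtype.ext ((QuotientGroup.eq_one_iff _).2 hnc)
  refine Nat.card_eq_two_iff.2 ⟨1, ⟨⟨n, hnm⟩, hnk⟩, fun e => ?_, Set.eq_univ_of_forall fun x => ?_⟩
  · have e1 : n = 1 := (congrArg (fun z : ↥proj.ker => ((z : ↥C0) : ↥Co0)) e).symm
    have h1 := congrFun (hn (e8 none)) none
    rw [e1, one_smul] at h1
    simp [e8] at h1
  · have hx : pr ((x : ↥C0) : ↥Co0) = 1 := congrArg Subtype.val x.2
    rcases center_cases hn ((QuotientGroup.eq_one_iff _).1 hx) with e | e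
    · exact Or.inl (Subtype.ext (Subtype.ext e))
    · exact Or.inr (Subtype.ext (Subtype.ext e))

theorem card_symp : Nat.card (Matrix.symplecticGroup (Fin 2) (ZMod 7)) = 7 ^ 4 * 115200 := by
  rw [Classical.SpCount.card_symplecticGroup, ZMod.card]
  rfl

theorem kidx_dvd : ∃ m, kidx ∣ 7 ^ m * 160 := by
  haveI := co0_finite
  haveI : Fact (Nat.Prime 7) := ⟨by norm_num⟩
  have hker : Nat.card rho.ker = 7 ^ (Nat.card rho.ker).primeFactorsList.length := by
    refine Nat.eq_prime_pow_of_unique_prime_dvd Nat.card_pos.ne' fun {d} hd hdv => ?_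
    haveI : Fact d.Prime := ⟨hd⟩
    obtain ⟨x, hx⟩ := exists_prime_orderOf_dvd_card' d hdv
    by_contra h7
    have hpow : (x : ↥C0) ^ d = 1 := by
      have h1 : x ^ d = 1 := hx ▸ pow_orderOf_eq_one x
      exact congrArg Subtype.val h1
    have h2 : x = 1 := Subtype.ext (rho_ker_prime _ x.2 hd h7 hpow)
    rw [h2, orderOf_one] at hx
    exact hd.ne_one hx.symm
  have hran : Nat.card rho.range ∣ 7 ^ 4 * 115200 := card_symp ▸ Subgroup.card_subgroup_dvd_card _
  have h := Subgroup.card_eq_card_quotient_mul_card_subgroup rho.ker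
  rw [Nat.card_congr (QuotientGroup.quotientKerEquivRange rho).toEquiv, card_C0, hker] at h
  generalize (Nat.card rho.ker).primeFactorsList.length = m at h
  refine ⟨4 + m, ?_⟩
  have h1 : 720 * (49 * kidx) ∣ 720 * (7 ^ (4 + m) * 160) := by
    rw [show 720 * (49 * kidx) = 2 * (17640 * kidx) by ring, h,
      show 720 * (7 ^ (4 + m) * 160) = 7 ^ 4 * 115200 * 7 ^ m by rw [pow_add]; ring]
    exact Nat.mul_dvd_mul_right hran _
  exact (dvd_mul_left kidx 49).trans (Nat.dvd_of_mul_dvd_mul_left (by norm_num) h1)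

theorem not_seven_cubed : ¬ (343 ∣ Nat.card Co1) := by
  rw [show Nat.card Co1 = 4157776806543360000 from card_co1]
  decide +kernel

/-- a seven cycle -/
def cyc7 : A7 := ⟨finRotate 7, Equiv.Perm.mem_alternatingGroup.2 (by decide +kernel)⟩

/-- doubling -/
def dbl7 : A7 := ⟨⟨fun x => 2 * x, fun x => 4 * x, by decide, by decide⟩,
  Equiv.Perm.mem_alternatingGroup.2 (by decide +kernel)⟩

/-- the Sylow subgroup of the known part -/
noncomputable def R7 : Subgroup ↥C1 := ((⊤ : Subgroup (Subgroup.zpowers gam1)).prod (Subgroup.zpowers cyc7)).map dmapC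

/-- its known normaliser -/
noncomputable def N7 : Subgroup ↥C1 :=
  ((⊤ : Subgroup (Subgroup.zpowers gam1)).prod (Subgroup.closure ({cyc7, dbl7} : Set A7))).map dmapC

theorem card_R7 : Nat.card R7 = 49 := by
  haveI : Fact (Nat.Prime 7) := ⟨by norm_num⟩
  have h7 : orderOf cyc7 = 7 := orderOf_eq_prime (by decide +kernel) (by decide +kernel)
  rw [R7, ← Nat.card_congr (Subgroup.equivMapOfInjective _ dmapC dmapC_inj).toEquiv,
    Nat.card_congr (Subgroup.prodEquiv _ _).toEquiv, Nat.card_prod, Nat.card_congr Subgroup.topEquiv.toEquiv,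
    Nat.card_zpowers, Nat.card_zpowers, orderOf_gam1, h7]

theorem card_N7 : 147 ≤ Nat.card N7 := by
  have h21 : 21 ≤ Nat.card (Subgroup.closure ({cyc7, dbl7} : Set A7)) := by
    let f : Fin 7 × Fin 3 → Subgroup.closure ({cyc7, dbl7} : Set A7) := fun x =>
      ⟨cyc7 ^ x.1.val * dbl7 ^ x.2.val, mul_mem (pow_mem (Subgroup.subset_closure (by simp)) _)
        (pow_mem (Subgroup.subset_closure (by simp)) _)⟩
    have hf : Function.Injective f := fun x y e =>
      (show ∀ x y : Fin 7 × Fin 3, cyc7 ^ x.1.val * dbl7 ^ x.2.val = cyc7 ^ y.1.val * dbl7 ^ y.2.val → x = y by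
        decide +kernel) x y (congrArg Subtype.val e)
    have := Nat.card_le_card_of_injective f hf
    rwa [Nat.card_prod, Nat.card_fin, Nat.card_fin] at this
  rw [N7, ← Nat.card_congr (Subgroup.equivMapOfInjective _ dmapC dmapC_inj).toEquiv,
    Nat.card_congr (Subgroup.prodEquiv _ _).toEquiv, Nat.card_prod, Nat.card_congr Subgroup.topEquiv.toEquiv,
    Nat.card_zpowers, orderOf_gam1]
  omega

theorem N7_le : N7 ≤ Subgroup.normalizer (R7 : Set ↥C1) := by
  refine le_trans (Subgroup.map_mono ?_) (Subgroup.le_normalizer_map _)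
  have hn : Subgroup.closure ({cyc7, dbl7} : Set A7) ≤ Subgroup.normalizer (Subgroup.zpowers cyc7 : Set A7) := by
    rw [Subgroup.closure_le]
    rintro x (rfl | rfl)
    · exact Subgroup.le_normalizer (Subgroup.mem_zpowers _)
    · refine Subgroup.mem_normalizer_iff.2 fun y => ?_
      have hmap : (Subgroup.zpowers cyc7).map (MulAut.conj dbl7).toMonoidHom = Subgroup.zpowers cyc7 := by
        rw [MonoidHom.map_zpowers]
        show Subgroup.zpowers (dbl7 * cyc7 * dbl7⁻¹) = _
        rw [show dbl7 * cyc7 * dbl7⁻¹ = cyc7 ^ 2 by decide +kernel]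
        refine le_antisymm (Subgroup.zpowers_le.2 (Subgroup.npow_mem_zpowers _ _)) (Subgroup.zpowers_le.2 ?_)
        rw [show cyc7 = (cyc7 ^ 2) ^ 4 by decide +kernel]
        rw [show ((cyc7 ^ 2) ^ 4) ^ 2 = cyc7 ^ 2 by decide +kernel]
        exact Subgroup.npow_mem_zpowers _ _
      conv_rhs => rw [← hmap]
      exact (Subgroup.mem_map_iff_mem (MulAut.conj dbl7).injective).symm
  rintro ⟨x, k⟩ ⟨-, hk⟩
  refine Subgroup.mem_normalizer_iff.2 fun y => ?_
  simp only [Subgroup.mem_prod, Subgroup.mem_top, true_and]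
  exact (Subgroup.mem_normalizer_iff.1 (hn hk)) y.2

theorem seven_not_dvd_index {H : Subgroup ↥C1} (h : Nat.card H = 49) : ¬ 7 ∣ H.index := fun h7 => by
  refine not_seven_cubed ((dvd_trans ?_ (Subgroup.card_subgroup_dvd_card C1)))
  rw [← H.card_mul_index, h]
  exact mul_dvd_mul (dvd_refl 49) h7

/-- the Sylow subgroup given by the coordinates -/
noncomputable def RS : Subgroup ↥C1 := R.subgroupOf C1

theorem card_RS : Nat.card RS = 49 := by
  rw [RS, Nat.card_congr (Subgroup.subgroupOfEquivOfLe R_le).toEquiv, card_R]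

theorem card_normRS : Nat.card (Subgroup.normalizer (RS : Set ↥C1)) ≤ 147 := by
  refine le_trans ?_ card_norm
  have hmem : ∀ x : Subgroup.normalizer (RS : Set ↥C1),
      ((x : ↥C1) : Co1) ∈ C1 ⊓ Subgroup.normalizer (R : Set Co1) := fun x => by
    refine ⟨(x : ↥C1).2, Subgroup.mem_normalizer_iff.2 fun y => ?_⟩
    have hx := Subgroup.mem_normalizer_iff.1 x.2
    constructor
    · intro hy
      exact (hx ⟨y, R_le hy⟩).1 hy
    · intro hy
      have h1 : ((x : ↥C1) : Co1) * y * ((x : ↥C1) : Co1)⁻¹ ∈ C1 := R_le hy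
      have hy' : y ∈ C1 := by
        have h2 := mul_mem (mul_mem (inv_mem (x : ↥C1).2) h1) (x : ↥C1).2
        simpa [mul_assoc] using h2
      exact (hx ⟨y, hy'⟩).2 hy
  exact Nat.card_le_card_of_injective (fun x => (⟨_, hmem x⟩ : ↥(C1 ⊓ Subgroup.normalizer (R : Set Co1))))
    fun x y e => Subtype.ext (Subtype.ext (congrArg (fun z : ↥(C1 ⊓ Subgroup.normalizer (R : Set Co1)) => (z : Co1)) e))

theorem norm_R7 : Subgroup.normalizer (R7 : Set ↥C1) = N7 ∧ kidx % 7 = 1 := by
  haveI : Fact (Nat.Prime 7) := ⟨by norm_num⟩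
  let P := (IsPGroup.of_card (p := 7) (n := 2) card_R7).toSylow (seven_not_dvd_index card_R7)
  let S := (IsPGroup.of_card (p := 7) (n := 2) card_RS).toSylow (seven_not_dvd_index card_RS)
  have hP := P.card_eq_index_normalizer
  have hS := S.card_eq_index_normalizer
  have e1 := (Subgroup.normalizer (P : Set ↥C1)).card_mul_index
  have e2 := (Subgroup.normalizer (S : Set ↥C1)).card_mul_index
  rw [← hP] at e1
  rw [← hS] at e2
  have hPR : (P : Subgroup ↥C1) = R7 := rfl
  have hSR : (S : Subgroup ↥C1) = RS := rfl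
  have heq : Nat.card (Subgroup.normalizer (R7 : Set ↥C1)) = Nat.card (Subgroup.normalizer (RS : Set ↥C1)) := by
    have := e1.trans e2.symm
    exact Nat.eq_of_mul_eq_mul_right Nat.card_pos this
  have hle := card_normRS
  have hge := card_N7.trans (Nat.le_of_dvd Nat.card_pos (Subgroup.card_dvd_of_le N7_le))
  have hN : Subgroup.normalizer (R7 : Set ↥C1) = N7 :=
    (Subgroup.eq_of_le_of_card_ge N7_le ((heq ▸ hle : _ ≤ 147).trans card_N7)).symm
  have h147 : Nat.card (Subgroup.normalizer (R7 : Set ↥C1)) = 147 := by omega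
  refine ⟨hN, ?_⟩
  have hmod : Nat.card (Sylow 7 ↥C1) ≡ 1 [MOD 7] := card_sylow_modEq_one 7 _
  change Nat.card (Subgroup.normalizer (R7 : Set ↥C1)) * _ = _ at e1
  rw [h147, card_C1] at e1
  have hn7 : Nat.card (Sylow 7 ↥C1) = 120 * kidx := by omega
  rw [hn7, Nat.ModEq] at hmod
  omega

theorem kidx_cases : kidx = 1 ∨ kidx = 8 := by
  obtain ⟨m, hm⟩ := kidx_dvd
  have h1 := norm_R7.2
  have hcop : Nat.Coprime kidx (7 ^ m) := by
    refine Nat.Coprime.pow_right m ((Nat.Prime.coprime_iff_not_dvd (by norm_num)).2 fun h => ?_).symm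
    omega
  have hd := hcop.dvd_of_dvd_mul_left hm
  have hle := Nat.le_of_dvd (by norm_num) hd
  have : ∀ k < 161, k ∣ 160 → k % 7 = 1 → k = 1 ∨ k = 8 := by decide +kernel
  exact this _ (by omega) hd h1

/-- an element of order fifteen -/
def fifteen : Equiv.Perm (Fin 8) := Equiv.swap 0 1 * Equiv.swap 1 2 *
  (Equiv.swap 3 4 * Equiv.swap 4 5 * Equiv.swap 5 6 * Equiv.swap 6 7)

theorem fifteen_facts : Equiv.Perm.sign fifteen = 1 ∧ fifteen ^ 15 = 1 ∧ fifteen ^ 42 ≠ 1 ∧ fifteen ^ 70 ≠ 1 := by
  decide +kernel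

theorem gam_mem_DC : (⟨gam1, Subgroup.mem_centralizer_singleton_iff.2 rfl⟩ : ↥C1) ∈ DC :=
  ⟨(⟨gam1, Subgroup.mem_zpowers _⟩, 1), Subtype.ext (by
    show dmap _ = gam1
    rw [dmap_apply, map_one, mul_one])⟩

theorem kidx_one : kidx = 1 := by
  refine kidx_cases.resolve_right fun h8 => ?_
  haveI : Fact (Nat.Prime 7) := ⟨by norm_num⟩
  let K := DC.normalCore
  have hgam : ∀ y : ↥C1, y ∈ (Subgroup.zpowers gam1).subgroupOf C1 → y ∈ K := fun y hy b => by
    obtain ⟨n, hn⟩ := Subgroup.mem_zpowers_iff.1 hy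
    have hc : (b : Co1) * y = y * b := by
      rw [show ((y : ↥C1) : Co1) = gam1 ^ n from hn.symm]
      exact ((show Commute (b : Co1) gam1 from Subgroup.mem_centralizer_singleton_iff.1 b.2).zpow_right n).eq
    have hby : b * y * b⁻¹ = y := mul_inv_eq_iff_eq_mul.2 (Subtype.ext hc)
    rw [hby, show y = (⟨gam1, Subgroup.mem_centralizer_singleton_iff.2 rfl⟩ : ↥C1) ^ n from
      Subtype.ext (by rw [SubgroupClass.coe_zpow]; exact hn.symm)]
    exact zpow_mem gam_mem_DC n
  let J : Subgroup A7 := K.comap (dmapC.comp (MonoidHom.inr _ _))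
  haveI : K.Normal := Subgroup.normalCore_normal DC
  haveI := simple_A7
  rcases IsSimpleGroup.eq_bot_or_eq_top_of_normal J inferInstance with e | e
  · -- the kernel of the action is the group of order seven
    have hK : K ≤ (Subgroup.zpowers gam1).subgroupOf C1 := fun y hy => by
      obtain ⟨⟨x, k⟩, rfl⟩ := Subgroup.normalCore_le DC hy
      have hxk : dmapC (1, k) = (dmapC (x, 1))⁻¹ * dmapC (x, k) := by
        rw [← map_inv, ← map_mul]; simp
      have hx1 : dmapC (x, 1) ∈ (Subgroup.zpowers gam1).subgroupOf C1 := by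
        show dmap (x, 1) ∈ Subgroup.zpowers gam1
        rw [dmap_apply, map_one, mul_one]; exact x.2
      have hk : k ∈ J := by
        show dmapC (1, k) ∈ K
        rw [hxk]
        exact mul_mem (inv_mem (hgam _ hx1)) hy
      rw [e, Subgroup.mem_bot] at hk
      rw [hk]
      exact hx1
    have hKeq : K = (Subgroup.zpowers gam1).subgroupOf C1 := le_antisymm hK hgam
    have hcardK : Nat.card K = 7 := by
      rw [hKeq, Nat.card_congr (Subgroup.subgroupOfEquivOfLe (Subgroup.zpowers_le.2
        (Subgroup.mem_centralizer_singleton_iff.2 rfl))).toEquiv, Nat.card_zpowers, orderOf_gam1]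
    have hq : Nat.card (↥C1 ⧸ DC) = Nat.card (Fin 8) := by rw [Nat.card_fin, ← h8]; rfl
    let ε : ↥C1 ⧸ DC ≃ Fin 8 := (Finite.card_eq.1 hq).some
    let φ : ↥C1 →* Equiv.Perm (Fin 8) :=
      ε.permCongrHom.toMonoidHom.comp (MulAction.toPermHom ↥C1 (↥C1 ⧸ DC))
    have hker : φ.ker = K := by
      rw [show K = _ from Subgroup.normalCore_eq_ker DC]
      ext y
      simp only [φ, MonoidHom.mem_ker, MonoidHom.comp_apply]
      exact map_eq_one_iff _ ε.permCongrHom.injective
    have hran : Nat.card φ.range = 20160 := by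
      have h := Subgroup.card_eq_card_quotient_mul_card_subgroup φ.ker
      rw [Nat.card_congr (QuotientGroup.quotientKerEquivRange φ).toEquiv, hker, hcardK, card_C1, h8] at h
      omega
    have hidx : φ.range.index = 2 := by
      have h := φ.range.card_mul_index
      rw [hran, Nat.card_eq_fintype_card (α := Equiv.Perm (Fin 8)), Fintype.card_perm, Fintype.card_fin,
        show Nat.factorial 8 = 40320 from rfl] at h
      omega
    have hmem : fifteen ∈ φ.range := by
      rw [Equiv.Perm.eq_alternatingGroup_of_index_eq_two hidx]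
      exact fifteen_facts.1
    obtain ⟨c, hc⟩ := hmem
    obtain ⟨g, hg⟩ := proj_surj c
    have hc15 : c ^ 15 ∈ K := by
      rw [← hker, MonoidHom.mem_ker, map_pow, hc, fifteen_facts.2.1]
    have hc105 : c ^ 105 = 1 := by
      rw [show 105 = 15 * 7 from rfl, pow_mul]
      have h7 := pow_card_eq_one' (x := (⟨c ^ 15, hc15⟩ : K))
      rw [hcardK] at h7
      exact congrArg Subtype.val h7
    obtain ⟨n, hn⟩ := negation_exists
    have hg210 : g ^ 210 = 1 := by
      have h1 : pr ((g : ↥Co0) ^ 105) = 1 := by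
        have := congrArg Subtype.val ((map_pow proj g 105).trans (hg ▸ hc105))
        rwa [map_pow]
      refine Subtype.ext ?_
      rw [SubgroupClass.coe_pow, show 210 = 105 * 2 from rfl, pow_mul, OneMemClass.coe_one]
      rcases center_cases hn ((QuotientGroup.eq_one_iff _).1 h1) with e' | e'
      · rw [e', one_pow]
      · rw [e', pow_two]
        exact co0_ext fun v => by rw [mul_smul, hn, hn, neg_neg, one_smul]
    have hne : ∀ j, fifteen ^ j ≠ 1 → g ^ j ≠ 1 := fun j hj e' => hj (by
      rw [← hc, ← map_pow, ← hg, ← map_pow, e', map_one, map_one])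
    have hX : rho (g ^ 42) ^ 5 = 1 := by rw [← map_pow, ← pow_mul, show 42 * 5 = 210 from rfl, hg210, map_one]
    have hY : rho (g ^ 70) ^ 3 = 1 := by rw [← map_pow, ← pow_mul, show 70 * 3 = 210 from rfl, hg210, map_one]
    have hX1 : rho (g ^ 42) ≠ 1 := fun e' => hne 42 fifteen_facts.2.2.1
      (rho_ker_prime _ e' (p := 5) (by norm_num) (by norm_num) (by rw [← pow_mul, show 42 * 5 = 210 from rfl, hg210]))
    have hY1 : rho (g ^ 70) ≠ 1 := fun e' => hne 70 fifteen_facts.2.2.2
      (rho_ker_prime _ e' (p := 3) (by norm_num) (by norm_num) (by rw [← pow_mul, show 70 * 3 = 210 from rfl, hg210]))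
    refine hY1 (Subtype.ext (five_three (X := (rho (g ^ 42)).1) ?_ (fun e' => hX1 (Subtype.ext e')) ?_ ?_
      (SymplecticGroup.mem_iff'.1 (rho (g ^ 70)).2)))
    · rw [← SubmonoidClass.coe_pow, hX]; rfl
    · rw [← SubmonoidClass.coe_pow, hY]; rfl
    · exact congrArg Subtype.val (((Commute.refl g).pow_pow 42 70).map rho).eq
  · -- the known part would be normal
    have hDC : K = DC := by
      refine le_antisymm (Subgroup.normalCore_le DC) ?_
      rintro _ ⟨⟨x, k⟩, rfl⟩
      have hk : dmapC (1, k) ∈ K := show k ∈ J from e ▸ Subgroup.mem_top k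
      rw [show (x, k) = ((x, 1) * (1, k) : Subgroup.zpowers gam1 × A7) by simp, map_mul]
      refine mul_mem (hgam _ ?_) hk
      show dmap (x, 1) ∈ Subgroup.zpowers gam1
      rw [dmap_apply, map_one, mul_one]; exact x.2
    haveI : DC.Normal := hDC ▸ (inferInstance : K.Normal)
    let P := (IsPGroup.of_card (p := 7) (n := 2) card_R7).toSylow (seven_not_dvd_index card_R7)
    have hle : ∀ H : Subgroup (Subgroup.zpowers gam1 × A7), H.map dmapC ≤ DC := fun H => by
      rintro _ ⟨p, -, rfl⟩; exact ⟨p, rfl⟩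
    have htop := Sylow.normalizer_sup_eq_top' P (hle _ : R7 ≤ DC)
    have hN : N7 ≤ DC := hle _
    rw [show Subgroup.normalizer (P : Set ↥C1) = N7 from norm_R7.1, sup_eq_right.2 hN] at htop
    have : kidx = 1 := by rw [kidx, htop, Subgroup.index_top]
    omega

/-- the centraliser -/
theorem seven_centralizer : Nat.card (Subgroup.zpowers gam1) = 7 ∧
    Nonempty (↥(Subgroup.centralizer ((Subgroup.zpowers gam1 : Subgroup Co1) : Set Co1)) ≃*
      Multiplicative (ZMod 7) × A7) := by
  have h7 : Nat.card (Subgroup.zpowers gam1) = 7 := by rw [Nat.card_zpowers, orderOf_gam1]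
  have hC : Subgroup.centralizer ((Subgroup.zpowers gam1 : Subgroup Co1) : Set Co1) = C1 := by
    rw [Subgroup.zpowers_eq_closure, Subgroup.centralizer_closure]
  have htop : dmapC.range = ⊤ := Subgroup.index_eq_one.1 kidx_one
  let e : Multiplicative (ZMod 7) ≃* Subgroup.zpowers gam1 :=
    (AddEquiv.toMultiplicative (ZMod.ringEquivCongr h7.symm).toAddEquiv).trans
      (zmodCyclicMulEquiv (inferInstance : IsCyclic (Subgroup.zpowers gam1)))
  exact ⟨h7, ⟨(MulEquiv.subgroupCongr hC).trans ((Subgroup.topEquiv.symm.trans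
    (MulEquiv.subgroupCongr htop.symm)).trans ((MonoidHom.ofInjective dmapC_inj).symm.trans
      (e.symm.prodCongr (MulEquiv.refl _))))⟩⟩

end Cfsg.Agent.Spor.CoSeven
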