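import Cfsg.Agent.Lib.Spor.Co1Seven

/-!
Elements of the automorphism group of the Leech lattice given by integral matrices, eight times their
values on the unit vectors.
-/

set_option autoImplicit false
set_option maxRecDepth 100000

namespace Cfsg.Agent.Spor.CoSeven

open Cfsg Cfsg.Agent.Spor.MonsterFusion
open Co1Seven (units_ext mat_apply)

local notation "Zv" => GolayPt → ℤ
set_option quotPrecheck false in
local notation "Lv" => ↥leechLattice

/-- dot product of lists -/
def dotL : List ℤ → List ℤ → ℤ
  | a :: as, b :: bs => a * b + dotL as bs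
  | _, _ => 0

theorem dotL_eq : ∀ (n : ℕ) (a b : List ℤ), a.length = n → b.length = n →
    dotL a b = ∑ j ∈ Finset.range n, a.getD j 0 * b.getD j 0 := by
  intro n
  induction n with
  | zero =>
    intro a b ha hb
    rw [List.length_eq_zero_iff.1 ha, List.length_eq_zero_iff.1 hb]; rfl
  | succ n ih =>
    intro a b ha hb
    match a, b with
    | [], _ => simp at ha
    | _ :: _, [] => simp at hb
    | x :: xs, y :: ys =>
      rw [List.length_cons, Nat.succ_inj] at ha hb
      rw [Finset.sum_range_succ', dotL, ih xs ys ha hb, add_comm]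
      simp

theorem sum_idx (f : ℕ → ℤ) : ∑ p : GolayPt, f (idx p) = ∑ j ∈ Finset.range 24, f j :=
  Finset.sum_nbij' idx pt (fun p _ => Finset.mem_range.2 (idx_lt p)) (fun _ _ => Finset.mem_univ _)
    (fun p _ => pt_idx p) (fun j hj => idx_pt j (Finset.mem_range.1 hj)) (fun _ _ => rfl)

theorem dotL_vec {a b : List ℤ} (ha : a.length = 24) (hb : b.length = 24) :
    dotL a b = ∑ p, vecOf a p * vecOf b p := by
  rw [dotL_eq 24 a b ha hb]
  exact (sum_idx fun j => a.getD j 0 * b.getD j 0).symm

/-- square of side twenty-four -/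
def shape (A : List (List ℤ)) : Bool := A.length == 24 && A.all fun r => r.length == 24

/-- transpose -/
def trL (A : List (List ℤ)) : List (List ℤ) := (List.range 24).map fun k => A.map fun r => r.getD k 0

/-- a row -/
def row (A : List (List ℤ)) (i : GolayPt) : Zv := vecOf (A.getD (idx i) [])

theorem shape_row {A : List (List ℤ)} (hA : shape A = true) (i : GolayPt) : (A.getD (idx i) []).length = 24 := by
  simp only [shape, Bool.and_eq_true, beq_iff_eq, List.all_eq_true] at hA
  rw [List.getD_eq_getElem _ _ (hA.1 ▸ idx_lt i)]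
  exact hA.2 _ (List.getElem_mem _)

theorem shape_trL {A : List (List ℤ)} (hA : shape A = true) : shape (trL A) = true := by
  simp only [shape, Bool.and_eq_true, beq_iff_eq, List.all_eq_true] at hA ⊢
  refine ⟨by simp [trL], fun r hr => ?_⟩
  simp only [trL, List.mem_map] at hr
  obtain ⟨k, -, rfl⟩ := hr
  simp [hA.1]

theorem row_trL {A : List (List ℤ)} (hA : shape A = true) (k i : GolayPt) : row (trL A) k i = row A i k := by
  simp only [shape, Bool.and_eq_true, beq_iff_eq] at hA
  have hk : idx k < (trL A).length := by simp [trL, idx_lt]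
  have hi : idx i < A.length := hA.1 ▸ idx_lt i
  simp only [row, vecOf, List.getD_eq_getElem _ _ hk, List.getD_eq_getElem _ _ hi]
  rw [List.getD_eq_getElem _ _ (by simp [trL, hA.1, idx_lt])]
  simp [trL]

/-- the identity -/
def oneL : List (List ℤ) := (List.range 24).map fun i => (List.range 24).map fun k => if k = i then 8 else 0

theorem row_oneL : ∀ i p : GolayPt, row oneL i p = if p = i then 8 else 0 := by decide +kernel

/-- negation -/
def negL : List (List ℤ) := (List.range 24).map fun i => (List.range 24).map fun k => if k = i then -8 else 0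

theorem row_negL : ∀ i p : GolayPt, row negL i p = if p = i then -8 else 0 := by decide +kernel

/-- product with the second factor transposed -/
def mulT (A Bt : List (List ℤ)) : List (List ℤ) := A.map fun r => Bt.map fun c => dotL r c / 8

/-- product -/
def mulL (A B : List (List ℤ)) : List (List ℤ) := mulT A (trL B)

theorem row_mulL {A B : List (List ℤ)} (hA : shape A = true) (hB : shape B = true) (i k : GolayPt) :
    row (mulL A B) i k = (∑ j, row A i j * row B j k) / 8 := by
  have hr := shape_row hA i
  have hT := shape_trL hB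
  have hc := shape_row hT k
  simp only [shape, Bool.and_eq_true, beq_iff_eq] at hA hT
  have hi : idx i < A.length := hA.1 ▸ idx_lt i
  have hk : idx k < (trL B).length := hT.1 ▸ idx_lt k
  have e : row (mulL A B) i k = dotL (A.getD (idx i) []) ((trL B).getD (idx k) []) / 8 := by
    simp only [row, vecOf, mulL, mulT]
    rw [List.getD_eq_getElem (A.map _) _ (by simpa using hi), List.getElem_map,
      List.getD_eq_getElem ((trL B).map _) _ (by simpa using hk), List.getElem_map,
      List.getD_eq_getElem _ _ hi, List.getD_eq_getElem _ _ hk]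
  rw [e, dotL_vec hr hc]
  refine congrArg (· / 8) (Finset.sum_congr rfl fun j _ => ?_)
  exact congrArg _ (row_trL hB k j)

theorem shape_mulL {A B : List (List ℤ)} (hA : shape A = true) : shape (mulL A B) = true := by
  simp only [shape, Bool.and_eq_true, beq_iff_eq, List.all_eq_true] at hA ⊢
  refine ⟨by simp [mulL, mulT, hA.1], fun r hr => ?_⟩
  simp only [mulL, mulT, List.mem_map] at hr
  obtain ⟨a, -, rfl⟩ := hr
  simp [trL]

/-- the element has the matrix -/
structure El (g : ↥Co0) (A : List (List ℤ)) : Prop where
  shp : shape A = true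
  val : ∀ i, ((g • e8 i : Lv) : Zv) = row A i

theorem El.apply {g : ↥Co0} {A : List (List ℤ)} (h : El g A) (v : Lv) (k : GolayPt) :
    ((g • v : Lv) : Zv) k = (∑ j, (v : Zv) j * row A j k) / 8 := mat_apply h.val v k

theorem El.mul {g h : ↥Co0} {A B : List (List ℤ)} (hg : El g A) (hh : El h B) : El (g * h) (mulL B A) :=
  ⟨shape_mulL hh.shp, fun i => funext fun k => by
    rw [mul_smul, hg.apply, hh.val, row_mulL hh.shp hg.shp]⟩

theorem El.eq {g h : ↥Co0} {A : List (List ℤ)} (hg : El g A) (hh : El h A) : g = h :=
  units_ext fun i => Subtype.ext (by rw [hg.val, hh.val])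

theorem El.one : El (1 : ↥Co0) oneL := ⟨by decide +kernel, fun i => funext fun p => by
  rw [one_smul, row_oneL]; simp [e8, Pi.single_apply]⟩

theorem El.neg {n : ↥Co0} (hn : ∀ v : Lv, ((n • v : Lv) : Zv) = -(v : Zv)) : El n negL :=
  ⟨by decide +kernel, fun i => funext fun p => by
    rw [hn, row_negL]; simp [e8, Pi.single_apply]; split_ifs <;> rfl⟩

/-- the linear map of a matrix, eight times -/
def xmul (A : List (List ℤ)) (x : Zv) : Zv := fun k => ∑ j, x j * row A j k

theorem xmul_add (A : List (List ℤ)) (x y : Zv) : xmul A (x + y) = xmul A x + xmul A y := by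
  funext k; simp [xmul, add_mul, Finset.sum_add_distrib]

/-- the rows are orthogonal of norm sixty-four -/
def orthL (A : List (List ℤ)) : Bool :=
  (List.range 24).all fun i => (List.range 24).all fun j =>
    dotL (A.getD i []) (A.getD j []) == if i = j then 64 else 0

/-- generators of the lattice -/
def gensL : List (List ℤ) :=
  ((List.range 23).flatMap fun i =>
      [(List.range 24).map fun k => if k = i then 4 else if k = 23 then 4 else 0,
       (List.range 24).map fun k => if k = i then 4 else if k = 23 then -4 else 0]) ++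
    (octBasis.map fun o => (List.range 24).map fun k => if Nat.testBit o k then 2 else 0) ++
    [(List.range 24).map fun k => if k = 23 then -3 else 1]

/-- one generator goes into the lattice -/
def imgOK (A : List (List ℤ)) (y : List ℤ) : Bool :=
  ((trL A).all fun c => dotL y c % 8 == 0) && leechCheck (vecOf ((trL A).map fun c => dotL y c / 8))

/-- the generators go into the lattice -/
def keepL (A : List (List ℤ)) : Bool := gensL.all (imgOK A)

theorem gensL_len : (gensL.all fun y => y.length == 24) = true := by decide +kernel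

theorem gens_pair : ∀ i : GolayPt, i ≠ none →
    (∀ k, vecOf (gensL.getD (2 * idx i) []) k = pairVec i none 1 k) ∧
    (∀ k, vecOf (gensL.getD (2 * idx i + 1) []) k = pairVec i none (-1) k) := by decide +kernel

theorem gens_oct : ∀ o ∈ octBasis, ∃ j < 12, ∀ k, vecOf (gensL.getD (46 + j) []) k = dbl (ofMaskW o) k := by
  decide +kernel

theorem gens_odd : ∀ k, vecOf (gensL.getD 58 []) k = oddVec k := by decide +kernel

/-- A property of lattice vectors closed under sums and negation holds everywhere if it holds at the generators. -/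
theorem gens_induction {P : Zv → Prop} (h0 : P 0)
    (hadd : ∀ x y, x ∈ leechLattice → y ∈ leechLattice → P x → P y → P (x + y))
    (hneg : ∀ x, x ∈ leechLattice → P x → P (-x))
    (hgen : ∀ y ∈ gensL, vecOf y ∈ leechLattice → P (vecOf y)) {x : Zv} (hx : x ∈ leechLattice) : P x := by
  let M : AddSubgroup Zv :=
    { carrier := {x | x ∈ leechLattice ∧ P x}
      zero_mem' := ⟨zero_mem _, h0⟩
      add_mem' := fun ⟨ha, pa⟩ ⟨hb, pb⟩ => ⟨add_mem ha hb, hadd _ _ ha hb pa pb⟩
      neg_mem' := fun ⟨ha, pa⟩ => ⟨neg_mem ha, hneg _ ha pa⟩ }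
  have mk : ∀ (n : ℕ) (y : Zv), n < gensL.length → y ∈ leechLattice → (∀ k, vecOf (gensL.getD n []) k = y k) →
      y ∈ M := fun n y hn hy e => by
    have e' : vecOf (gensL.getD n []) = y := funext e
    refine ⟨hy, e' ▸ hgen _ ?_ (e' ▸ hy)⟩
    rw [List.getD_eq_getElem _ _ hn]; exact List.getElem_mem _
  have hlen : gensL.length = 59 := by decide +kernel
  refine (leech_le_of M (fun a ha => ha.1) (fun i hi => ?_) (fun o ho => ?_)
    (mk 58 _ (by omega) oddVec_mem gens_odd) hx).2
  · obtain ⟨h1, h2⟩ := gens_pair i hi
    have := idx_lt i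
    have : idx i ≠ 23 := fun e => hi (idx_injective (e.trans rfl))
    exact ⟨mk _ _ (by omega) (pairVec_spec hi (Or.inl rfl)).1 h1, mk _ _ (by omega) (pairVec_spec hi (Or.inr rfl)).1 h2⟩
  · obtain ⟨j, hj, e⟩ := gens_oct o ho
    exact mk _ _ (by omega) (dbl_octBasis ho).1 e

theorem keep_spec {A : List (List ℤ)} (hA : shape A = true) (h : keepL A = true) {x : Zv} (hx : x ∈ leechLattice) :
    ∃ y ∈ leechLattice, xmul A x = (8 : ℤ) • y := by
  refine gens_induction (P := fun x => ∃ y ∈ leechLattice, xmul A x = (8 : ℤ) • y) ?_ ?_ ?_ ?_ hx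
  · exact ⟨0, zero_mem _, funext fun k => by simp [xmul]⟩
  · rintro a b - - ⟨y, hy, e⟩ ⟨z, hz, e'⟩
    exact ⟨y + z, add_mem hy hz, by rw [xmul_add, e, e', smul_add]⟩
  · rintro a - ⟨y, hy, e⟩
    exact ⟨-y, neg_mem hy, by funext k; simpa [xmul] using congrFun (congrArg Neg.neg e) k⟩
  · intro y hy _
    have h1 := List.all_eq_true.1 h y hy
    simp only [imgOK, Bool.and_eq_true, List.all_eq_true, beq_iff_eq] at h1
    refine ⟨_, leechCheck_mem h1.2, funext fun k => ?_⟩
    have hT := shape_trL hA
    have hl : y.length = 24 := beq_iff_eq.1 (List.all_eq_true.1 gensL_len y hy)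
    have hk : idx k < (trL A).length := by simp [trL, idx_lt]
    have e : xmul A (vecOf y) k = dotL y ((trL A).getD (idx k) []) := by
      rw [dotL_vec hl (shape_row hT k)]
      exact Finset.sum_congr rfl fun j _ => congrArg _ (row_trL hA k j).symm
    rw [e, Pi.smul_apply, smul_eq_mul]
    show _ = 8 * List.getD _ (idx k) 0
    rw [List.getD_eq_getElem (List.map _ _) _ (by simpa using hk), List.getElem_map, List.getD_eq_getElem _ _ hk]
    have := h1.1 _ (List.getElem_mem hk)
    omega

theorem orth_spec {A : List (List ℤ)} (hA : shape A = true) (h : orthL A = true) (i j : GolayPt) :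
    ∑ k, row A i k * row A j k = if i = j then 64 else 0 := by
  simp only [orthL, List.all_eq_true, List.mem_range, beq_iff_eq] at h
  have := h _ (idx_lt i) _ (idx_lt j)
  rw [dotL_vec (shape_row hA i) (shape_row hA j)] at this
  refine this.trans ?_
  simp only [idx_injective.eq_iff]

/-- a matrix of an automorphism -/
def goodM (A : List (List ℤ)) : Bool := shape A && keepL A && keepL (trL A) && orthL A && orthL (trL A)

theorem el_exists {A : List (List ℤ)} (h : goodM A = true) : ∃ g : ↥Co0, El g A := by
  simp only [goodM, Bool.and_eq_true] at h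
  obtain ⟨⟨⟨⟨hA, hk⟩, hk'⟩, ho⟩, ho'⟩ := h
  have hA' := shape_trL hA
  have back : ∀ {B : List (List ℤ)}, shape B = true → orthL B = true → ∀ (C : List (List ℤ)),
      (∀ i k, row C k i = row B i k) → ∀ x : Zv, xmul C (xmul B x) = (64 : ℤ) • x := fun {B} hB hoB C hC x => by
    funext i
    show ∑ k, (∑ j, x j * row B j k) * row C k i = 64 * x i
    simp only [Finset.sum_mul, mul_assoc, hC]
    rw [Finset.sum_comm]
    simp only [← Finset.mul_sum, orth_spec hB hoB]
    simp [mul_comm]
  let f : List (List ℤ) → Zv → Zv := fun B x k => xmul B x k / 8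
  have fs : ∀ {B : List (List ℤ)}, shape B = true → keepL B = true → ∀ v ∈ leechLattice,
      f B v ∈ leechLattice ∧ xmul B v = (8 : ℤ) • f B v := fun {B} hB hkB v hv => by
    obtain ⟨y, hy, e⟩ := keep_spec hB hkB hv
    have : f B v = y := funext fun k => by simp [f, e]
    rw [this]; exact ⟨hy, e⟩
  have inv : ∀ {B C : List (List ℤ)}, shape B = true → keepL B = true → shape C = true → keepL C = true →
      orthL B = true → (∀ i k, row C k i = row B i k) → ∀ v ∈ leechLattice, f C (f B v) = v := by
    intro B C hB hkB hC hkC hoB hBC v hv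
    obtain ⟨h1, e1⟩ := fs hB hkB v hv
    obtain ⟨-, e2⟩ := fs hC hkC _ h1
    have h := back hB hoB C hBC v
    rw [e1] at h
    funext k
    have h3 := congrFun h k
    have h4 : xmul C ((8 : ℤ) • f B v) k = 8 * xmul C (f B v) k := by
      simp only [xmul, Pi.smul_apply, smul_eq_mul, Finset.mul_sum, mul_assoc]
    rw [h4, e2, Pi.smul_apply, Pi.smul_apply, smul_eq_mul, smul_eq_mul] at h3
    omega
  obtain ⟨g, hg⟩ := exists_aut (f A) (f (trL A)) (fun v hv => (fs hA hk v hv).1)
    (fun v hv => (fs hA' hk' v hv).1) (inv hA hk hA' hk' ho fun i k => row_trL hA k i)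
    (inv hA' hk' hA hk ho' fun i k => (row_trL hA i k).symm)
    (fun v hv w hw => funext fun k => by
      have e1 := congrFun (fs hA hk v hv).2 k
      have e2 := congrFun (fs hA hk w hw).2 k
      have e3 := congrFun (fs hA hk _ (add_mem hv hw)).2 k
      rw [xmul_add] at e3
      simp only [Pi.add_apply, Pi.smul_apply, smul_eq_mul] at e1 e2 e3 ⊢
      omega)
    (fun v hv => by
      have h1 : sqNorm (xmul A v) = 64 * sqNorm v := by
        have hb := back hA ho (trL A) (fun i k => row_trL hA k i) v
        simp only [sqNorm, Finset.mul_sum, sq]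
        have e : ∑ k, xmul A v k * xmul A v k = ∑ i, v i * xmul (trL A) (xmul A v) i := by
          simp only [xmul, Finset.mul_sum, Finset.sum_mul, row_trL hA]
          rw [Finset.sum_comm]
          refine Finset.sum_congr rfl fun i _ => Finset.sum_congr rfl fun k _ =>
            Finset.sum_congr rfl fun j _ => by ring
        rw [e, hb]
        exact Finset.sum_congr rfl fun i _ => by simp; ring
      rw [(fs hA hk v hv).2, sqNorm_smul] at h1
      linarith)
  refine ⟨g, hA, fun i => ?_⟩
  rw [hg]
  funext k
  show (∑ j, (Pi.single i 8 : Zv) j * row A j k) / 8 = row A i k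
  rw [Finset.sum_eq_single i (fun j _ hj => by rw [Pi.single_eq_of_ne hj, zero_mul]) (by simp), Pi.single_eq_same]
  omega

end Cfsg.Agent.Spor.CoSeven
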