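import Mathlib

/-!
Centralisers and normalisers along an isomorphism.
-/

set_option autoImplicit false

universe u v

namespace Cfsg.Agent.Spor.CoSeven

theorem centralizer_map_equiv {G : Type u} {H : Type v} [Group G] [Group H] (e : G ≃* H) (V : Subgroup G) :
    (Subgroup.centralizer (V : Set G)).map e.toMonoidHom =
      Subgroup.centralizer ((V.map e.toMonoidHom : Subgroup H) : Set H) := by
  ext x
  simp only [Subgroup.mem_map, Subgroup.mem_centralizer_iff, SetLike.mem_coe]
  constructor
  · rintro ⟨y, hy, rfl⟩ _ ⟨v, hv, rfl⟩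
    show e v * e y = e y * e v
    rw [← map_mul, hy v hv, map_mul]
  · intro hx
    refine ⟨e.symm x, fun v hv => e.injective ?_, e.apply_symm_apply x⟩
    rw [map_mul, map_mul, e.apply_symm_apply]
    exact hx _ ⟨v, hv, rfl⟩

theorem centralizer_transport {G : Type u} {H : Type v} [Group G] [Group H] (e : G ≃* H) (V : Subgroup H) :
    Nat.card ↥(V.map e.symm.toMonoidHom) = Nat.card ↥V ∧
    Nonempty (↥(Subgroup.centralizer ((V.map e.symm.toMonoidHom : Subgroup G) : Set G)) ≃*
      ↥(Subgroup.centralizer (V : Set H))) :=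
  ⟨(Nat.card_congr (e.symm.subgroupMap V).toEquiv).symm,
    ⟨(MulEquiv.subgroupCongr (centralizer_map_equiv e.symm V).symm).trans (e.symm.subgroupMap _).symm⟩⟩

theorem normalizer_transport {G : Type u} {H : Type v} [Group G] [Group H] (e : G ≃* H) (V : Subgroup H) :
    Nat.card ↥(V.map e.symm.toMonoidHom) = Nat.card ↥V ∧
    Nonempty (↥(Subgroup.normalizer ((V.map e.symm.toMonoidHom : Subgroup G) : Set G)) ≃*
      ↥(Subgroup.normalizer (V : Set H))) :=
  ⟨(Nat.card_congr (e.symm.subgroupMap V).toEquiv).symm,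
    ⟨(MulEquiv.subgroupCongr (Subgroup.map_equiv_normalizer_eq V e.symm).symm).trans
      (e.symm.subgroupMap _).symm⟩⟩

end Cfsg.Agent.Spor.CoSeven
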